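import Cfsg.Agent.FGSev.CyclicSylow
import Cfsg.Agent.FGS4.CyclicSylowStructure
import Mathlib.GroupTheory.SchurZassenhaus

/-!
Groups with cyclic Sylow `p`-subgroups all of whose `p'`-subgroups are abelian: the local structure.
-/

set_option autoImplicit false
set_option linter.style.haveILetI false
set_option linter.unusedSectionVars false

namespace Cfsg.Agent.CyclicSylowAb

open Subgroup

variable {G : Type*} [Group G] [Finite G] {p : ℕ} [Fact p.Prime]

theorem sylow_comm (P : Sylow p G) (hc : IsCyclic (P : Subgroup G)) {a b : G}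
    (ha : a ∈ (P : Subgroup G)) (hb : b ∈ (P : Subgroup G)) : Commute a b := by
  obtain ⟨z, hz⟩ := hc.exists_generator
  obtain ⟨i, hi⟩ := hz ⟨a, ha⟩
  obtain ⟨j, hj⟩ := hz ⟨b, hb⟩
  rw [show a = (z : G) ^ i from (congrArg Subtype.val hi).symm,
    show b = (z : G) ^ j from (congrArg Subtype.val hj).symm]
  exact (Commute.refl (z : G)).zpow_zpow i j

theorem coprime_of_mem {K : Subgroup G} (hK : ¬ p ∣ Nat.card K) {g : G} (hg : g ∈ K) :
    (orderOf g).Coprime p :=
  (((Fact.out : p.Prime).coprime_iff_not_dvd).2 hK).symm.coprime_dvd_left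
    (Subgroup.orderOf_dvd_natCard K hg)

/-- A `p'`-element normalising a cyclic Sylow `p`-subgroup and fixing a nontrivial element of it
centralises it. -/
theorem mem_centralizer_of_fix (P : Sylow p G) (hc : IsCyclic (P : Subgroup G)) {h : G}
    (hh : h ∈ normalizer ((P : Subgroup G) : Set G)) (hho : (orderOf h).Coprime p) {x : G}
    (hx : x ∈ (P : Subgroup G)) (hx1 : x ≠ 1) (hfix : Commute h x) :
    h ∈ centralizer ((P : Subgroup G) : Set G) := by
  obtain ⟨⟨z, hz⟩, hgen⟩ := hc.exists_generator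
  have hgen' : ∀ y ∈ (P : Subgroup G), ∃ i : ℤ, z ^ i = y := fun y hy => by
    obtain ⟨i, hi⟩ := mem_zpowers_iff.1 (hgen ⟨y, hy⟩)
    exact ⟨i, congrArg Subtype.val hi⟩
  obtain ⟨s, hs⟩ := FGSev.pElem_of_mem P.2 hz
  obtain ⟨t, ht⟩ := hgen' x hx
  obtain ⟨e, he⟩ := hgen' (h * z * h⁻¹) ((mem_normalizer_iff.1 hh z).1 hz)
  have hcz : Commute h z := FGSev.commute_of_fix_nontrivial hs hho he.symm (t := t)
    (by rw [ht]; exact hx1) (by rw [ht, hfix.eq, mul_inv_cancel_right])
  refine mem_centralizer_iff.2 fun y hy => ?_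
  obtain ⟨i, rfl⟩ := hgen' y hy
  exact (hcz.zpow_right i).eq.symm

/-- If every `p'`-element normalising an abelian Sylow subgroup centralises it, so does the whole
normalizer. -/
theorem normalizer_le_centralizer (P : Sylow p G) (hc : IsCyclic (P : Subgroup G))
    (h : ∀ g ∈ normalizer ((P : Subgroup G) : Set G), (orderOf g).Coprime p →
      g ∈ centralizer ((P : Subgroup G) : Set G)) :
    normalizer ((P : Subgroup G) : Set G) ≤ centralizer ((P : Subgroup G) : Set G) := by
  intro n hn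
  have hm := h (Element.pComplPart p n) (zpowers_le.2 hn (Element.pComplPart_mem_zpowers p n))
    (Element.coprime_orderOf_pComplPart Fact.out n)
  have hu : Element.pPart p n ∈ (P : Subgroup G) := by
    have hz' := (FGSev.pElem_iff_isPGroup p _).mp ⟨_, Element.orderOf_pPart_eq_pow Fact.out n⟩
    exact ((hz'.inf_normalizer_sylow P).le
      ⟨mem_zpowers _, zpowers_le.2 hn (Element.pPart_mem_zpowers p n)⟩).2
  rw [← Element.pPart_mul_pComplPart p n]
  refine mul_mem (mem_centralizer_iff.2 fun y hy => (sylow_comm P hc hy hu).eq) hm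

/-- A `p'`-subgroup together with a normal one. -/
theorem not_dvd_card_sup_zpowers {R : Subgroup G} {h : G} (hR : ¬ p ∣ Nat.card R)
    (hh : h ∈ normalizer (R : Set G)) (hho : (orderOf h).Coprime p) :
    ¬ p ∣ Nat.card ↥(R ⊔ zpowers h) := by
  intro hdvd
  have hle : R ⊔ zpowers h ≤ normalizer (R : Set G) := sup_le le_normalizer (zpowers_le.2 hh)
  set K := R ⊔ zpowers h
  haveI : (R.subgroupOf K).Normal := Subgroup.normal_subgroupOf_of_le_normalizer hle
  have hcard := (R.subgroupOf K).card_mul_index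
  rw [Nat.card_congr (subgroupOfEquivOfLe (le_sup_left : R ≤ K)).toEquiv] at hcard
  have hidx : (R.subgroupOf K).index ∣ orderOf h := by
    rw [index_eq_card]
    set hK : K := ⟨h, mem_sup_right (mem_zpowers h)⟩
    have hgen : ∀ q : K ⧸ R.subgroupOf K, q ∈ zpowers (QuotientGroup.mk' (R.subgroupOf K) hK) := by
      intro q
      obtain ⟨⟨x, hx⟩, rfl⟩ := QuotientGroup.mk'_surjective (R.subgroupOf K) q
      have hx' : x ∈ (↑(R ⊔ zpowers h) : Set G) := hx
      rw [coe_mul_of_right_le_normalizer_left R (zpowers h) (zpowers_le.2 hh)] at hx'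
      obtain ⟨r, hr, z, ⟨i, rfl⟩, rfl⟩ := hx'
      refine ⟨i, ?_⟩
      show (QuotientGroup.mk' _ hK) ^ i = _
      rw [← map_zpow]
      have hrK : r ∈ K := mem_sup_left hr
      have e : (⟨r * h ^ i, hx⟩ : K) = ⟨r, hrK⟩ * hK ^ i := Subtype.ext (by simp [hK])
      rw [e, map_mul, show QuotientGroup.mk' (R.subgroupOf K) ⟨r, hrK⟩ = 1 from
        (QuotientGroup.eq_one_iff _).2 hr, one_mul]
    rw [← orderOf_eq_card_of_forall_mem_zpowers hgen, ← Subgroup.orderOf_mk (a := h)
      (mem_sup_right (mem_zpowers h) : h ∈ K)]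
    exact orderOf_map_dvd _ _
  rw [← hcard] at hdvd
  rcases (Fact.out : p.Prime).dvd_mul.1 hdvd with h1 | h1
  · exact hR h1
  · exact ((Fact.out : p.Prime).coprime_iff_not_dvd.1 hho.symm) (h1.trans hidx)

/-- The hypotheses on a simple group. -/
structure Setup (P : Sylow p G) : Prop where
  simple : IsSimpleGroup G
  nonab : ∃ a b : G, a * b ≠ b * a
  cyc : IsCyclic (P : Subgroup G)
  ab : ∀ H : Subgroup G, ¬ p ∣ Nat.card H → IsMulCommutative H
  nontriv : (P : Subgroup G) ≠ ⊥
  npc : ¬ Cfsg.HasNormalPComplement p G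
  loc : ∀ M : Subgroup G, M ≠ ⊤ → (P : Subgroup G) ≤ M →
    ∀ h ∈ M, h ∈ normalizer ((P : Subgroup G) : Set G) → (orderOf h).Coprime p →
      h ∉ centralizer ((P : Subgroup G) : Set G) → M ≤ normalizer ((P : Subgroup G) : Set G)

variable {P : Sylow p G}

theorem Setup.eq_bot_or_top (S : Setup P) {N : Subgroup G} (hN : N.Normal) : N = ⊥ ∨ N = ⊤ :=
  haveI := S.simple
  hN.eq_bot_or_eq_top

theorem Setup.comm (S : Setup P) {H : Subgroup G} (hH : ¬ p ∣ Nat.card H) {a b : G}
    (ha : a ∈ H) (hb : b ∈ H) : Commute a b :=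
  congrArg Subtype.val ((S.ab H hH).is_comm.comm (⟨a, ha⟩ : H) ⟨b, hb⟩)

theorem Setup.center_eq_bot (S : Setup P) : center G = ⊥ := by
  refine (S.eq_bot_or_top inferInstance).resolve_right fun h => ?_
  obtain ⟨a, b, hab⟩ := S.nonab
  exact hab (mem_center_iff.1 (h ▸ mem_top b) a)

theorem Setup.normalizer_ne_top (S : Setup P) {U : Subgroup G} (hU : U ≠ ⊥)
    (hU' : U ≠ ⊤) : normalizer (U : Set G) ≠ ⊤ := fun h =>
  hU' ((S.eq_bot_or_top (normalizer_eq_top_iff.1 h)).resolve_left hU)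

theorem Setup.centralizer_ne_top (S : Setup P) {x : G} (hx : x ≠ 1) :
    centralizer ({x} : Set G) ≠ ⊤ := fun h => hx (by
  have : x ∈ center G := mem_center_iff.2 fun g =>
    mem_centralizer_singleton_iff.1 (h ▸ mem_top g : g ∈ centralizer ({x} : Set G))
  rwa [S.center_eq_bot, mem_bot] at this)

theorem Setup.exists_h (S : Setup P) : ∃ h ∈ normalizer ((P : Subgroup G) : Set G),
    (orderOf h).Coprime p ∧ h ∉ centralizer ((P : Subgroup G) : Set G) := by
  by_contra! hno
  exact S.npc (Transfer.hasNormalPComplement_of_normalizer_le_centralizer P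
    (normalizer_le_centralizer P S.cyc hno))

theorem Setup.exists_y (S : Setup P) : ∃ y ∈ (P : Subgroup G), orderOf y = p := by
  obtain ⟨k, hk⟩ := IsPGroup.iff_card.1 P.2
  have hk0 : k ≠ 0 := fun h => S.nontriv (card_eq_one.1 (by rw [hk, h, pow_zero]))
  obtain ⟨y, hy⟩ := exists_prime_orderOf_dvd_card' (G := (P : Subgroup G)) p (hk ▸ dvd_pow_self p hk0)
  exact ⟨y, y.2, by rw [orderOf_coe]; exact hy⟩

theorem Setup.zpowers_ne_top (S : Setup P) (y : G) : zpowers y ≠ ⊤ := fun h => by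
  obtain ⟨a, b, hab⟩ := S.nonab
  obtain ⟨i, rfl⟩ := (h ▸ mem_top a : a ∈ zpowers y)
  obtain ⟨j, rfl⟩ := (h ▸ mem_top b : b ∈ zpowers y)
  exact hab ((Commute.refl y).zpow_zpow i j).eq

theorem conj_mem_zpowers {y g : G} (hy : g * y * g⁻¹ ∈ zpowers y) :
    g ∈ normalizer ((zpowers y : Subgroup G) : Set G) := by
  rw [mem_normalizer_iff]
  have hle : (zpowers y).map (MulAut.conj g).toMonoidHom ≤ zpowers y := by
    rw [MonoidHom.map_zpowers, zpowers_le]
    exact hy
  have heq := eq_of_le_of_card_ge hle (by rw [card_map_of_injective (f := (MulAut.conj g).toMonoidHom) (MulAut.conj g).injective])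
  intro x
  constructor
  · exact fun hx => heq ▸ ⟨x, hx, rfl⟩
  · intro hx
    rw [← heq] at hx
    obtain ⟨z, hz, hze⟩ := hx
    rwa [← (MulAut.conj g).injective hze]

/-- The normalizer of the subgroup of order `p` normalises `P`. -/
theorem Setup.normalizer_order_p_le (S : Setup P) {y : G} (hy : y ∈ (P : Subgroup G))
    (hyo : orderOf y = p) :
    normalizer ((zpowers y : Subgroup G) : Set G) ≤ normalizer ((P : Subgroup G) : Set G) := by
  obtain ⟨h, hh, hho, hhc⟩ := S.exists_h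
  have hy1 : zpowers y ≠ ⊥ := fun h => by
    rw [zpowers_eq_bot] at h
    rw [h, orderOf_one] at hyo
    exact (Fact.out : p.Prime).ne_one hyo.symm
  refine S.loc _ (S.normalizer_ne_top hy1 (S.zpowers_ne_top y)) (fun a ha => ?_) h ?_ hh hho hhc
  · refine conj_mem_zpowers ?_
    rw [(sylow_comm P S.cyc ha hy).eq, mul_inv_cancel_right]
    exact mem_zpowers y
  · refine conj_mem_zpowers (FGS4.mem_zpowers_of_commute P S.cyc ?_ hyo ?_)
    · rw [conj_pow, ← hyo, pow_orderOf_eq_one, mul_one, mul_inv_cancel]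
    · exact sylow_comm P S.cyc ((mem_normalizer_iff.1 hh y).1 hy) hy

/-- The conjugates of `P` meet trivially. -/
theorem Setup.mem_normalizer_of_ti (S : Setup P) {g x : G} (hx : x ∈ (P : Subgroup G)) (hx1 : x ≠ 1)
    (hgx : g * x * g⁻¹ ∈ (P : Subgroup G)) : g ∈ normalizer ((P : Subgroup G) : Set G) := by
  obtain ⟨s, hs⟩ := FGSev.pElem_of_mem P.2 hx
  obtain ⟨y', hy', hyo⟩ : ∃ y' ∈ zpowers x, orderOf y' = p := by
    have hs0 : s ≠ 0 := fun h => hx1 (orderOf_eq_one_iff.1 (by rw [hs, h, pow_zero]))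
    refine ⟨x ^ p ^ (s - 1), pow_mem (mem_zpowers x) _, ?_⟩
    rw [orderOf_pow' _ (pow_pos (Fact.out : p.Prime).pos _).ne', hs,
      Nat.gcd_eq_right (pow_dvd_pow p (Nat.sub_le s 1)), Nat.pow_div (Nat.sub_le s 1) (Fact.out : p.Prime).pos,
      show s - (s - 1) = 1 by omega, pow_one]
  obtain ⟨i, rfl⟩ := hy'
  simp only at hyo
  have hyP : x ^ i ∈ (P : Subgroup G) := zpow_mem hx i
  refine S.normalizer_order_p_le hyP hyo (conj_mem_zpowers ?_)
  refine FGS4.mem_zpowers_of_commute P S.cyc ?_ hyo ?_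
  · rw [conj_pow, ← hyo, pow_orderOf_eq_one, mul_one, mul_inv_cancel]
  · refine sylow_comm P S.cyc ?_ hyP
    rw [← conj_zpow]
    exact zpow_mem hgx i

theorem Setup.centralizer_le_normalizer (S : Setup P) {y : G} (hy : y ∈ (P : Subgroup G)) (hy1 : y ≠ 1) :
    centralizer ({y} : Set G) ≤ normalizer ((P : Subgroup G) : Set G) := fun g hg =>
  S.mem_normalizer_of_ti hy hy1 (by rw [mem_centralizer_singleton_iff.1 hg, mul_inv_cancel_right]; exact hy)

/-- The complement of `P` in its normalizer and the part centralising `P`. -/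
structure Compl (P : Sylow p G) (L : Subgroup G) : Prop where
  le : L ≤ normalizer ((P : Subgroup G) : Set G)
  card : ¬ p ∣ Nat.card L
  gen : ∀ g ∈ normalizer ((P : Subgroup G) : Set G), ∃ a ∈ (P : Subgroup G), ∃ l ∈ L, g = a * l

theorem exists_compl (P : Sylow p G) : ∃ L, Compl P L := by
  set N := normalizer ((P : Subgroup G) : Set G)
  set P' := (P : Subgroup G).subgroupOf N
  have hPN : (P : Subgroup G) ≤ N := le_normalizer
  haveI : P'.Normal := Subgroup.normal_subgroupOf_of_le_normalizer le_rfl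
  have hndvd : ¬ p ∣ P'.index := fun h =>
    P.not_dvd_index (h.trans (Subgroup.relIndex_dvd_index_of_le hPN))
  have hcop : Nat.Coprime (Nat.card P') P'.index := by
    obtain ⟨k, hk⟩ := IsPGroup.iff_card.1 P.2
    rw [Nat.card_congr (subgroupOfEquivOfLe hPN).toEquiv, hk]
    exact ((Fact.out : p.Prime).coprime_iff_not_dvd.2 hndvd).pow_left k
  obtain ⟨K, hK⟩ := exists_right_complement'_of_coprime hcop
  refine ⟨K.map N.subtype, map_subtype_le K, ?_, ?_⟩
  · rw [card_map_of_injective N.subtype_injective, ← hK.symm.index_eq_card]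
    exact hndvd
  · intro g hg
    obtain ⟨⟨a, l⟩, h⟩ := hK.2 (⟨g, hg⟩ : N)
    exact ⟨(a : N), a.2, (l : N), ⟨l, l.2, rfl⟩, (congrArg Subtype.val h).symm⟩

variable {L : Subgroup G}

theorem Compl.inf_eq_bot (C : Compl P L) {g : G} (hP : g ∈ (P : Subgroup G)) (hL : g ∈ L) : g = 1 := by
  obtain ⟨k, hk⟩ := FGSev.pElem_of_mem P.2 hP
  have h := coprime_of_mem C.card hL
  rw [hk] at h
  rcases Nat.eq_zero_or_pos k with h0 | h0
  · exact orderOf_eq_one_iff.1 (by rw [hk, h0, pow_zero])
  · exact absurd ((Nat.coprime_pow_left_iff h0 p p).1 h) (by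
      rw [Nat.coprime_self]; exact (Fact.out : p.Prime).ne_one)

/-- The part of `L` centralising `P`. -/
def X (P : Sylow p G) (L : Subgroup G) : Subgroup G := L ⊓ centralizer ((P : Subgroup G) : Set G)

theorem Setup.fpf (S : Setup P) (C : Compl P L) {l x : G} (hl : l ∈ L) (hx : x ∈ (P : Subgroup G))
    (hx1 : x ≠ 1) (hc : Commute l x) : l ∈ X P L :=
  ⟨hl, mem_centralizer_of_fix P S.cyc (C.le hl) (coprime_of_mem C.card hl) hx hx1 hc⟩

theorem Setup.exists_notMem_X (S : Setup P) (C : Compl P L) : ∃ l ∈ L, l ∉ X P L := by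
  by_contra! hall
  obtain ⟨h, hh, hho, hhc⟩ := S.exists_h
  refine hhc ?_
  obtain ⟨a, ha, l, hl, rfl⟩ := C.gen h hh
  exact mul_mem (mem_centralizer_iff.2 fun y hy => (sylow_comm P S.cyc hy ha).eq) (hall l hl).2

/-- Conjugation of `L` on the subgroup generated by `y` separates exactly the cosets of `X`. -/
theorem Setup.exists_psi (S : Setup P) (C : Compl P L) {y : G} (hy : y ∈ (P : Subgroup G))
    (hyo : orderOf y = p) :
    ∃ ψ : L →* MulAut (zpowers y), ∀ l : L, ψ l = 1 ↔ (l : G) ∈ X P L := by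
  have hy1 : y ≠ 1 := fun h => by rw [h, orderOf_one] at hyo; exact (Fact.out : p.Prime).ne_one hyo.symm
  have hLU : L ≤ normalizer ((zpowers y : Subgroup G) : Set G) := fun l hl => by
    refine conj_mem_zpowers (FGS4.mem_zpowers_of_commute P S.cyc ?_ hyo ?_)
    · rw [conj_pow, ← hyo, pow_orderOf_eq_one, mul_one, mul_inv_cancel]
    · exact sylow_comm P S.cyc ((mem_normalizer_iff.1 (C.le hl) y).1 hy) hy
  refine ⟨(normalizerMonoidHom (zpowers y)).comp (inclusion hLU), fun l => ?_⟩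
  constructor
  · intro h
    have h1 := congrArg (fun e : MulAut (zpowers y) => ((e ⟨y, mem_zpowers y⟩ : zpowers y) : G)) h
    have h2 : (l : G) * y * (l : G)⁻¹ = y := h1
    exact S.fpf C l.2 hy hy1 (mul_inv_eq_iff_eq_mul.1 h2)
  · intro h
    refine MulEquiv.ext fun u => Subtype.ext ?_
    show (l : G) * (u : G) * (l : G)⁻¹ = u
    rw [← mem_centralizer_iff.1 h.2 (u : G) (zpowers_le.2 hy u.2), mul_inv_cancel_right]

theorem mulAut_zpowers {y : G} (hy : orderOf y = p) :
    IsCyclic (MulAut (zpowers y)) ∧ Nat.card (MulAut (zpowers y)) = p - 1 := by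
  have hc : Nat.card (zpowers y) = p := by rw [Nat.card_zpowers, hy]
  let e := IsCyclic.mulAutMulEquiv (zpowers y)
  constructor
  · haveI : IsCyclic (ZMod (Nat.card (zpowers y)))ˣ := by rw [hc]; infer_instance
    exact isCyclic_of_surjective e.symm e.symm.surjective
  · rw [Nat.card_congr e.toEquiv, hc, Nat.card_eq_fintype_card, ZMod.card_units]

theorem exists_conj_mem (P : Sylow p G) {u : G} (hu : orderOf u = p) :
    ∃ g : G, g⁻¹ * u * g ∈ (P : Subgroup G) := by
  obtain ⟨Q, hQ⟩ := FGSev.pElem_exists_sylow (p := p) (g := u) ⟨1, by rw [hu, pow_one]⟩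
  obtain ⟨g, hg⟩ := MulAction.exists_smul_eq G P Q
  refine ⟨g, ?_⟩
  rw [← hg, Sylow.coe_subgroup_smul] at hQ
  obtain ⟨v, hv, hve⟩ := hQ
  rw [← hve]
  show g⁻¹ * (g * v * g⁻¹) * g ∈ _
  rw [show g⁻¹ * (g * v * g⁻¹) * g = v by group]; exact hv

/-- An element of order `p` centralised by a `p'`-element, conjugated into `P`. -/
theorem Setup.pLocal (S : Setup P) (C : Compl P L) {m u : G} (hm : (orderOf m).Coprime p)
    (hu : orderOf u = p) (hc : Commute m u) :
    ∃ g : G, g⁻¹ * m * g ∈ X P L := by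
  obtain ⟨g, hg⟩ := exists_conj_mem P hu
  refine ⟨g, ?_⟩
  set y := g⁻¹ * u * g with hy
  set m' := g⁻¹ * m * g with hm'
  have hy1 : y ≠ 1 := fun h => by
    have : u = 1 := by rw [show u = g * y * g⁻¹ by rw [hy]; group, h]; group
    rw [this, orderOf_one] at hu
    exact (Fact.out : p.Prime).ne_one hu.symm
  have hc' : Commute m' y := by
    show g⁻¹ * m * g * (g⁻¹ * u * g) = g⁻¹ * u * g * (g⁻¹ * m * g)
    calc g⁻¹ * m * g * (g⁻¹ * u * g) = g⁻¹ * (m * u) * g := by group
      _ = _ := by rw [hc.eq]; group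
  have hN : m' ∈ normalizer ((P : Subgroup G) : Set G) :=
    S.centralizer_le_normalizer hg hy1 (mem_centralizer_singleton_iff.2 hc'.eq)
  obtain ⟨a, ha, l, hl, he⟩ := C.gen m' hN
  have hlc : Commute l y := by
    rw [show l = a⁻¹ * m' by rw [he, inv_mul_cancel_left]]
    exact (sylow_comm P S.cyc ha hg).inv_left.mul_left hc'
  have hlX := S.fpf C hl hg hy1 hlc
  have hla : Commute a l := mem_centralizer_iff.1 hlX.2 a ha
  have hmo : (orderOf m').Coprime p := by
    rwa [hm', show g⁻¹ * m * g = MulAut.conj g⁻¹ m by simp, MulEquiv.orderOf_eq]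
  obtain ⟨k, hk⟩ := FGSev.pElem_of_mem P.2 ha
  have hla' := coprime_of_mem C.card hl
  have ha1 : a = 1 := by
    by_contra hne
    have hk0 : k ≠ 0 := fun h0 => hne (orderOf_eq_one_iff.1 (by rw [hk, h0, pow_zero]))
    have hord := hla.orderOf_mul_eq_mul_orderOf_of_coprime (by rw [hk]; exact hla'.symm.pow_left k)
    rw [← he, hk] at hord
    rw [hord] at hmo
    exact (Fact.out : p.Prime).coprime_iff_not_dvd.1 hmo.symm (dvd_mul_of_dvd_left (dvd_pow_self p hk0) _)
  rw [he, ha1, one_mul]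
  exact hlX

/-- Two involutions generating a `p'`-group commute. -/
theorem Setup.dvd_orderOf_mul (S : Setup P) (hp2 : p ≠ 2) {s t : G} (hs : orderOf s = 2)
    (ht : orderOf t = 2) (hn : ¬ Commute t s) : p ∣ orderOf (t * s) := by
  by_contra hp
  refine hn ?_
  set u := t * s
  have hcop : (orderOf u).Coprime p := ((Fact.out : p.Prime).coprime_iff_not_dvd.2 hp).symm
  have hss : s * s = 1 := by rw [← pow_two, ← hs, pow_orderOf_eq_one]
  have htt : t * t = 1 := by rw [← pow_two, ← ht, pow_orderOf_eq_one]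
  have htn : t ∈ normalizer ((zpowers u : Subgroup G) : Set G) := by
    refine conj_mem_zpowers ⟨-1, ?_⟩
    show u ^ (-1 : ℤ) = t * u * t⁻¹
    rw [zpow_neg_one, mul_inv_rev, inv_eq_of_mul_eq_one_left htt, inv_eq_of_mul_eq_one_left hss,
      show t * (t * s) = s by rw [← mul_assoc, htt, one_mul]]
  have hu' : ¬ p ∣ Nat.card (zpowers u) := by rwa [Nat.card_zpowers]
  have ht2 : (orderOf t).Coprime p := by
    rw [ht]; exact (Nat.coprime_primes Nat.prime_two Fact.out).2 (Ne.symm hp2)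
  have hK := not_dvd_card_sup_zpowers hu' htn ht2
  have h1 := S.comm hK (mem_sup_left (mem_zpowers u)) (mem_sup_right (mem_zpowers t))
  have h2 : t * (t * s) = (t * s) * t := h1.eq.symm
  exact mul_left_cancel (a := t) (by rw [h2]; group)

end Cfsg.Agent.CyclicSylowAb
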