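import Cfsg.Agent.CyclicSylowAb.Nontrivial
import Cfsg.Agent.Transfer.Residual

/-!
A group with a cyclic Sylow `p`-subgroup and abelian `p'`-subgroups has a normal `p`-complement or a
normal Sylow `p`-subgroup.
-/

set_option autoImplicit false
set_option linter.style.haveILetI false
set_option linter.unusedSectionVars false

namespace Cfsg.Agent.CyclicSylowAb

open Subgroup

universe u

/-- The statement being proved by induction. -/
def Dichotomy (p : ℕ) (G : Type u) [Group G] : Prop :=
  ∀ P : Sylow p G, IsCyclic (P : Subgroup G) →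
    (∀ H : Subgroup G, ¬ p ∣ Nat.card H → IsMulCommutative H) →
      Cfsg.HasNormalPComplement p G ∨ (P : Subgroup G).Normal

variable {G : Type u} [Group G] [Finite G] {p : ℕ} [Fact p.Prime]

theorem isMulCommutative_subgroup (hab : ∀ H : Subgroup G, ¬ p ∣ Nat.card H → IsMulCommutative H)
    (M : Subgroup G) (H : Subgroup M) (hH : ¬ p ∣ Nat.card H) : IsMulCommutative H := by
  have h := hab (H.map M.subtype) (by rwa [card_map_of_injective M.subtype_injective])
  refine ⟨⟨fun a b => Subtype.ext (M.subtype_injective ?_)⟩⟩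
  exact congrArg Subtype.val (h.is_comm.comm (⟨_, a, a.2, rfl⟩ : H.map M.subtype) ⟨_, b, b.2, rfl⟩)

theorem isCyclic_sylow_subgroup (P : Sylow p G) (hcyc : IsCyclic (P : Subgroup G)) (M : Subgroup G)
    (Q : Sylow p M) : IsCyclic (Q : Subgroup M) := by
  obtain ⟨R, hR⟩ := (Q.2.map M.subtype).exists_le_sylow
  haveI := hcyc
  haveI : IsCyclic (R : Subgroup G) :=
    isCyclic_of_surjective (P.equiv R) (P.equiv R).surjective
  let f : (Q : Subgroup M) →* (R : Subgroup G) :=
    { toFun := fun a => ⟨((a : M) : G), hR ⟨_, a.2, rfl⟩⟩, map_one' := rfl, map_mul' := fun _ _ => rfl }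
  exact isCyclic_of_injective f fun a b h =>
    Subtype.ext (Subtype.ext (congrArg (fun t : (R : Subgroup G) => (t : G)) h))

theorem card_comap_mk (R : Subgroup G) [R.Normal] (H : Subgroup (G ⧸ R)) :
    Nat.card (H.comap (QuotientGroup.mk' R)) = Nat.card R * Nat.card H := by
  have h1 := (H.comap (QuotientGroup.mk' R)).card_mul_index
  rw [H.index_comap_of_surjective (QuotientGroup.mk'_surjective R), ← R.card_mul_index, index_eq_card R,
    ← H.card_mul_index, ← mul_assoc] at h1
  exact Nat.eq_of_mul_eq_mul_right (Nat.pos_of_ne_zero H.index_ne_zero_of_finite) h1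

theorem dichotomy_of_normal_pPrime (R : Subgroup G) [R.Normal] (hR : ¬ p ∣ Nat.card R)
    (IH : Dichotomy p (G ⧸ R)) : Dichotomy p G := by
  intro P hcyc hab
  have hp : p.Prime := Fact.out
  have hprod : ∀ H : Subgroup (G ⧸ R), ¬ p ∣ Nat.card H →
      ¬ p ∣ Nat.card (H.comap (QuotientGroup.mk' R)) := fun H hH h => by
    rw [card_comap_mk] at h
    exact (hp.dvd_mul.1 h).elim hR hH
  haveI := hcyc
  let Pb := P.mapSurjective (QuotientGroup.mk'_surjective R)
  have hcb : IsCyclic (Pb : Subgroup (G ⧸ R)) := by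
    rw [Sylow.coe_mapSurjective]
    exact isCyclic_of_surjective ((QuotientGroup.mk' R).subgroupMap (P : Subgroup G))
      ((QuotientGroup.mk' R).subgroupMap_surjective _)
  have habb : ∀ H : Subgroup (G ⧸ R), ¬ p ∣ Nat.card H → IsMulCommutative H := by
    intro H hH
    have h := hab _ (hprod H hH)
    refine ⟨⟨?_⟩⟩
    rintro ⟨a, ha⟩ ⟨b, hb⟩
    obtain ⟨a, rfl⟩ := QuotientGroup.mk'_surjective R a
    obtain ⟨b, rfl⟩ := QuotientGroup.mk'_surjective R b
    have h2 : a * b = b * a := congrArg Subtype.val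
      (h.is_comm.comm (⟨a, ha⟩ : H.comap (QuotientGroup.mk' R)) ⟨b, hb⟩)
    exact Subtype.ext (show QuotientGroup.mk' R a * QuotientGroup.mk' R b = _ by rw [← map_mul, h2, map_mul]; rfl)
  rcases IH Pb hcb habb with ⟨Q, N, hN, hc⟩ | hnorm
  · left
    obtain ⟨k, hk⟩ := IsPGroup.iff_card.1 Q.2
    have hNp : ¬ p ∣ Nat.card N := Transfer.card_coprime_of_mem_normal_complement Q hc
    refine Transfer.hasNormalPComplement_of_normal (N.comap (QuotientGroup.mk' R)) (hprod N hNp)
      (n := k) ?_
    rw [index_comap_of_surjective _ (QuotientGroup.mk'_surjective R), hc.symm.index_eq_card, hk]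
  by_cases hall : ∀ g ∈ normalizer ((P : Subgroup G) : Set G), (orderOf g).Coprime p →
      g ∈ centralizer ((P : Subgroup G) : Set G)
  · exact .inl (Transfer.hasNormalPComplement_of_normalizer_le_centralizer P
      (normalizer_le_centralizer P hcyc hall))
  right
  push Not at hall
  obtain ⟨h, hh, hho, hhC⟩ := hall
  have hhR : h ∈ centralizer (R : Set G) := by
    refine mem_centralizer_iff.2 fun x hx => ?_
    have := hab _ (not_dvd_card_sup_zpowers hR
      (by rw [normalizer_eq_top_iff.2 ‹R.Normal›]; exact mem_top _) hho)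
    exact congrArg Subtype.val (this.is_comm.comm (⟨x, mem_sup_left hx⟩ : ↥(R ⊔ zpowers h))
      ⟨h, mem_sup_right (mem_zpowers h)⟩)
  have hPC : (P : Subgroup G) ≤ centralizer (R : Set G) := by
    let φ : ↥(P : Subgroup G) → ↥(P : Subgroup G) := fun z =>
      ⟨h * z * h⁻¹ * (z : G)⁻¹, mul_mem ((mem_normalizer_iff.1 hh z).1 z.2) (inv_mem z.2)⟩
    have hφ : Function.Injective φ := by
      intro z w he
      have he' : h * z * h⁻¹ * (z : G)⁻¹ = h * w * h⁻¹ * (w : G)⁻¹ := congrArg Subtype.val he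
      by_contra hne
      refine hhC (mem_centralizer_of_fix P hcyc hh hho (x := (w : G)⁻¹ * z)
        (mul_mem (inv_mem w.2) z.2) (fun h1 => hne (Subtype.ext (inv_mul_eq_one.1 h1).symm)) ?_)
      refine mul_inv_eq_iff_eq_mul.1 ?_
      have hz' : h * z * h⁻¹ = h * w * h⁻¹ * ((w : G)⁻¹ * z) := by
        rw [← mul_assoc, ← he']; group
      calc h * ((w : G)⁻¹ * z) * h⁻¹ = (h * w * h⁻¹)⁻¹ * (h * z * h⁻¹) := by group
        _ = (w : G)⁻¹ * z := by rw [hz']; group
    intro a ha
    obtain ⟨z, hz⟩ := (Finite.injective_iff_surjective.1 hφ) ⟨a, ha⟩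
    rw [show a = h * z * h⁻¹ * (z : G)⁻¹ from (congrArg Subtype.val hz).symm,
      mul_assoc, mul_assoc, ← mul_assoc (z : G)]
    exact mul_mem hhR ((inferInstance : (centralizer (R : Set G)).Normal).conj_mem _ (inv_mem hhR) z)
  set M := ((Pb : Subgroup (G ⧸ R))).comap (QuotientGroup.mk' R) with hM
  haveI : M.Normal := hnorm.comap _
  have hMeq : M = (P : Subgroup G) ⊔ R := by
    rw [hM, Sylow.coe_mapSurjective, comap_map_eq, QuotientGroup.ker_mk']
  have hPM : (P : Subgroup G) ≤ M := hMeq ▸ le_sup_left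
  have hfr := Sylow.normalizer_sup_eq_top (P.subtype hPM)
  rw [Sylow.coe_subtype, subgroupOf_map_subtype, inf_eq_left.2 hPM, hMeq] at hfr
  refine normalizer_eq_top_iff.1 (top_le_iff.1 (hfr.ge.trans (sup_le le_rfl (sup_le le_normalizer ?_))))
  intro r hr
  refine mem_normalizer_iff.2 fun y => ⟨fun hy => ?_, fun hy => ?_⟩
  · rw [mem_centralizer_iff.1 (hPC hy) r hr, mul_inv_cancel_right]; exact hy
  · have := mem_centralizer_iff.1 (hPC hy) r⁻¹ (inv_mem hr)
    have e : y = r * y * r⁻¹ := by
      calc y = r⁻¹ * (r * y * r⁻¹) * r := by group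
        _ = r * y * r⁻¹ := by rw [this]; group
    rwa [e]

theorem le_of_normal (P : Sylow p G) {Q : Subgroup G} (hQn : Q.Normal) (hQ : IsPGroup p Q) :
    Q ≤ (P : Subgroup G) := by
  obtain ⟨R, hR⟩ := hQ.exists_le_sylow
  obtain ⟨g, rfl⟩ := MulAction.exists_smul_eq G P R
  intro a ha
  have h := hR (hQn.conj_mem a ha g)
  rw [Sylow.coe_subgroup_smul] at h
  obtain ⟨b, hb, hbe⟩ := h
  have : g * b * g⁻¹ = g * a * g⁻¹ := hbe
  rwa [mul_left_cancel (mul_right_cancel this)] at hb

theorem dichotomy_of_not_simple (M : Subgroup G) [M.Normal] (hM : M ≠ ⊥) (hM' : M ≠ ⊤)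
    (hno : ∀ R : Subgroup G, R.Normal → ¬ p ∣ Nat.card R → R = ⊥)
    (IH : ∀ K : Subgroup G, K ≠ ⊤ → Dichotomy p K) : Dichotomy p G := by
  intro P hcyc hab
  have key : ∀ K : Subgroup G, K.Normal → K ≠ ⊤ → K ≠ ⊥ →
      ∃ Q : Subgroup G, Q.Normal ∧ IsPGroup p Q ∧ Q ≠ ⊥ ∧
        ((P : Subgroup G) ≤ K → Q = P) := by
    intro K hK hK' hK1
    haveI := hK
    have hpd : ∀ S : Sylow p K, (S : Subgroup K).map K.subtype ≠ ⊥ := fun S h => hK1 (hno K hK fun hd => by
      rw [(Subgroup.map_eq_bot_iff_of_injective _ K.subtype_injective)] at h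
      exact S.ne_bot_of_dvd_card hd h)
    obtain ⟨S, hS⟩ : ∃ S : Sylow p K, (P : Subgroup G) ≤ K → (S : Subgroup K).map K.subtype = P := by
      by_cases hPK : (P : Subgroup G) ≤ K
      · refine ⟨P.subtype hPK, fun _ => ?_⟩
        rw [Sylow.coe_subtype, subgroupOf_map_subtype, inf_eq_left.2 hPK]
      · exact ⟨default, fun h => absurd h hPK⟩
    have hSn : (S : Subgroup K).Normal := by
      rcases IH K hK' S (isCyclic_sylow_subgroup P hcyc K S) (isMulCommutative_subgroup hab K) with h | h
      · have hres : Cfsg.pResidual p K = ⊥ := by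
          have h0 := hno ((Cfsg.pResidual p K).map K.subtype) inferInstance (by
            rw [card_map_of_injective K.subtype_injective]
            exact Transfer.hasNormalPComplement_iff.1 h)
          rwa [Subgroup.map_eq_bot_iff_of_injective _ K.subtype_injective] at h0
        have htop := Transfer.pResidual_sup_sylow S
        rw [hres, bot_sup_eq] at htop
        rw [htop]; infer_instance
      · exact h
    haveI := S.characteristic_of_normal hSn
    exact ⟨_, inferInstance, S.2.map K.subtype, hpd S, hS⟩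
  obtain ⟨Q, hQn, hQp, hQ1, -⟩ := key M ‹_› hM' hM
  have hQP := le_of_normal P hQn hQp
  haveI := hQn
  by_cases hC : centralizer (Q : Set G) = ⊤
  · left
    obtain ⟨x, hx, hx1⟩ := Q.bot_or_exists_ne_one.resolve_left hQ1
    refine FGSev.hasNormalPComplement_of_cyclic_sylow_central P hcyc (hQP hx)
      hx1 (mem_center_iff.2 fun g => ?_)
    exact (mem_centralizer_iff.1 (hC ▸ mem_top g : g ∈ centralizer (Q : Set G)) x hx).symm
  · right
    have hPC : (P : Subgroup G) ≤ centralizer (Q : Set G) := fun a ha =>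
      mem_centralizer_iff.2 fun y hy => (sylow_comm P hcyc (hQP hy) ha).eq
    have hC1 : centralizer (Q : Set G) ≠ ⊥ := fun h => hQ1 (eq_bot_iff.2 ((hQP.trans hPC).trans h.le))
    obtain ⟨Q', hQ'n, -, -, hQ'e⟩ := key _ inferInstance hC hC1
    exact hQ'e hPC ▸ hQ'n

theorem dichotomy_of_simple [IsSimpleGroup G]
    (IH : ∀ K : Subgroup G, K ≠ ⊤ → Dichotomy p K) : Dichotomy p G := by
  intro P hcyc hab
  by_cases hP1 : (P : Subgroup G) = ⊥
  · exact .inr (hP1 ▸ inferInstance)
  by_cases hG : ∀ a b : G, a * b = b * a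
  · exact .inr ⟨fun a ha g => by rw [hG g a, mul_inv_cancel_right]; exact ha⟩
  push Not at hG
  by_contra hcon
  push Not at hcon
  have S : Setup P :=
    { simple := inferInstance
      nonab := hG
      cyc := hcyc
      ab := hab
      nontriv := hP1
      npc := hcon.1
      loc := by
        intro M hM hPM h hh hhN hho hhC
        rcases IH M hM (P.subtype hPM) (isCyclic_sylow_subgroup P hcyc M _)
          (isMulCommutative_subgroup hab M) with h1 | h1
        · refine absurd (mem_centralizer_iff.2 fun a ha => ?_) hhC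
          have h2 := Transfer.centralize_of_hasNormalPComplement h1 ((P : Subgroup G).subgroupOf M)
            ((P.2).comap_subtype) (g := (⟨h, hh⟩ : M))
            (mem_normalizer_iff.2 fun y => mem_normalizer_iff.1 hhN y)
            (by rwa [Subgroup.orderOf_mk])
          exact congrArg Subtype.val (mem_centralizer_iff.1 h2 ⟨a, hPM ha⟩ ha)
        · rw [Sylow.coe_subtype] at h1
          exact (normal_subgroupOf_iff_le_normalizer hPM).1 h1 }
  obtain ⟨L, C⟩ := exists_compl P
  by_cases hX : X P L = ⊥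
  · exact S.no_trivial_X C hX
  · exact S.no_nontrivial_X C hX

theorem dichotomy (p : ℕ) [Fact p.Prime] (G : Type u) [Group G] [Finite G] : Dichotomy p G := by
  suffices h : ∀ (n : ℕ) (G : Type u) [Group G] [Finite G], Nat.card G = n → Dichotomy p G from
    h _ G rfl
  intro n
  induction n using Nat.strong_induction_on with
  | _ n ih =>
    intro G _ _ hn
    have IH : ∀ K : Subgroup G, K ≠ ⊤ → Dichotomy p K := fun K hK =>
      ih (Nat.card K) (hn ▸ lt_of_le_of_ne (Nat.le_of_dvd Nat.card_pos K.card_subgroup_dvd_card)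
        fun h => hK (eq_top_of_card_eq K h)) K rfl
    by_cases hR : ∃ R : Subgroup G, R.Normal ∧ ¬ p ∣ Nat.card R ∧ R ≠ ⊥
    · obtain ⟨R, hRn, hRp, hR1⟩ := hR
      haveI := hRn
      refine dichotomy_of_normal_pPrime R hRp (ih (Nat.card (G ⧸ R)) ?_ (G ⧸ R) rfl)
      rw [← hn, ← index_eq_card, ← R.card_mul_index]
      exact lt_mul_of_one_lt_left (Nat.pos_of_ne_zero R.index_ne_zero_of_finite)
        ((one_lt_card_iff_ne_bot _).2 hR1)
    · push Not at hR
      rcases subsingleton_or_nontrivial G with hs | hs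
      · exact fun P _ _ => .inr ⟨fun a ha g => by rwa [Subsingleton.elim (g * a * g⁻¹) a]⟩
      by_cases hM : ∃ M : Subgroup G, M.Normal ∧ M ≠ ⊥ ∧ M ≠ ⊤
      · obtain ⟨M, hMn, hM1, hM2⟩ := hM
        haveI := hMn
        exact dichotomy_of_not_simple M hM1 hM2 hR IH
      · push Not at hM
        haveI : IsSimpleGroup G := ⟨fun H hH => or_iff_not_imp_left.2 (hM H hH)⟩
        exact dichotomy_of_simple IH

end Cfsg.Agent.CyclicSylowAb
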