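import Cfsg.Agent.CyclicSylowAb.Trivial
import Cfsg.Agent.MixedPrime.Friendship

/-!
The case where some `p'`-element centralises a Sylow `p`-subgroup: `p = 3`, the Sylow 2-subgroups
are four-groups and the commuting graph on the involutions is a friendship graph.
-/

set_option autoImplicit false
set_option linter.style.haveILetI false
set_option linter.unusedSectionVars false

namespace Cfsg.Agent.CyclicSylowAb

open Subgroup

variable {G : Type*} [Group G] [Finite G] {p : ℕ} [Fact p.Prime] {P : Sylow p G} {L : Subgroup G}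

theorem Setup.centralizer_X (S : Setup P) (C : Compl P L) {x : G} (hx : x ∈ X P L) (hx1 : x ≠ 1) :
    centralizer ({x} : Set G) = normalizer ((P : Subgroup G) : Set G) := by
  have hLC : ∀ l ∈ L, l ∈ centralizer ({x} : Set G) := fun l hl =>
    mem_centralizer_singleton_iff.2 (S.comm C.card hl hx.1).eq
  have hPC : ∀ a ∈ (P : Subgroup G), a ∈ centralizer ({x} : Set G) := fun a ha =>
    mem_centralizer_singleton_iff.2 (mem_centralizer_iff.1 hx.2 a ha)
  refine le_antisymm ?_ fun g hg => ?_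
  · obtain ⟨l, hl, hlX⟩ := S.exists_notMem_X C
    exact S.loc _ (S.centralizer_ne_top hx1) hPC l (hLC l hl) (C.le hl) (coprime_of_mem C.card hl)
      fun h => hlX ⟨hl, h⟩
  · obtain ⟨a, ha, l, hl, rfl⟩ := C.gen g hg
    exact mul_mem (hPC a ha) (hLC l hl)

theorem mem_normalizer_of_conj {g : G} {Q : Sylow p G}
    (h : ∀ a ∈ (Q : Subgroup G), g * a * g⁻¹ ∈ normalizer ((Q : Subgroup G) : Set G)) :
    g ∈ normalizer ((Q : Subgroup G) : Set G) := by
  have hle : ((g • Q : Sylow p G) : Subgroup G) ≤ normalizer ((Q : Subgroup G) : Set G) := by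
    rw [Sylow.coe_subgroup_smul]
    rintro _ ⟨a, ha, rfl⟩
    exact h a ha
  rw [mem_normalizer_iff_smul]
  have hmap : ((g • Q : Sylow p G) : Subgroup G) ≤ (Q : Subgroup G) := fun a ha => by
    have hz' : IsPGroup p ((g • Q : Sylow p G) : Subgroup G) := (g • Q).2
    exact ((hz'.inf_normalizer_sylow Q).le ⟨ha, hle ha⟩).2
  exact Sylow.ext ((g • Q).3 Q.2 hmap).symm

theorem Setup.no_nontrivial_X (S : Setup P) (C : Compl P L) (hX : X P L ≠ ⊥) : False := by
  classical
  have hp : p.Prime := Fact.out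
  have hp2 := two_ne S
  obtain ⟨y, hy, hyo⟩ := S.exists_y
  obtain ⟨ψ, hψ⟩ := S.exists_psi C hy hyo
  obtain ⟨hAc, hAcard⟩ := mulAut_zpowers hyo
  haveI := hAc
  set N := normalizer ((P : Subgroup G) : Set G)
  obtain ⟨lX, hlX, hlXX⟩ := S.exists_notMem_X C
  obtain ⟨r, hr, hrd⟩ := Nat.exists_prime_and_dvd ((one_lt_card_iff_ne_bot _).2 hX).ne'
  haveI : Fact r.Prime := ⟨hr⟩
  obtain ⟨⟨x, hxX⟩, hxo⟩ := exists_prime_orderOf_dvd_card' (G := X P L) r hrd
  rw [Subgroup.orderOf_mk] at hxo
  have hx1 : x ≠ 1 := fun h => by rw [h, orderOf_one] at hxo; exact hr.ne_one hxo.symm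
  have hrp : r ≠ p := fun h => by
    subst h
    exact C.card (hrd.trans (card_dvd_of_le inf_le_left))
  have hCx := S.centralizer_X C hxX hx1
  -- a full Sylow `r`-subgroup inside `L`
  obtain ⟨R₀, hR₀⟩ : ∃ R₀ : Sylow r L, (⟨x, hxX.1⟩ : L) ∈ (R₀ : Subgroup L) := by
    obtain ⟨R₀, h⟩ := (IsPGroup.of_card (n := 1) (show Nat.card (zpowers (⟨x, hxX.1⟩ : L)) = r ^ 1 by
      rw [Nat.card_zpowers, Subgroup.orderOf_mk, hxo, pow_one])).exists_le_sylow
    exact ⟨R₀, h (mem_zpowers _)⟩
  set R₁ := (R₀ : Subgroup L).map L.subtype with hR₁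
  obtain ⟨R, hR⟩ := (R₀.2.map L.subtype).exists_le_sylow
  have hRp : ¬ p ∣ Nat.card (R : Subgroup G) := by
    obtain ⟨k, hk⟩ := IsPGroup.iff_card.1 R.2
    rw [hk]
    exact fun h => hrp ((Nat.prime_dvd_prime_iff_eq hp hr).1 (hp.dvd_of_dvd_pow h)).symm
  have hxR : x ∈ (R : Subgroup G) := hR ⟨⟨x, hxX.1⟩, hR₀, rfl⟩
  have hRN : (R : Subgroup G) ≤ N := fun g hg =>
    hCx.le (mem_centralizer_singleton_iff.2 (S.comm hRp hg hxR).eq)
  have hReq : (R : Subgroup G) = R₁ := by
    refine (eq_of_le_of_card_ge hR ?_).symm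
    rw [card_map_of_injective L.subtype_injective]
    show Nat.card (R : Subgroup G) ≤ Nat.card (R₀ : Subgroup L)
    obtain ⟨k, hk⟩ := IsPGroup.iff_card.1 R.2
    rw [Sylow.card_eq_multiplicity R₀, hk]
    refine Nat.pow_le_pow_right hr.pos ((hr.pow_dvd_iff_le_factorization Nat.card_pos.ne').1 ?_)
    have hPN : (P : Subgroup G) ≤ N := le_normalizer
    have h1 : r ^ k ∣ Nat.card (P : Subgroup G) * Nat.card L := by
      refine (hk ▸ card_dvd_of_le hRN).trans ?_
      haveI : ((P : Subgroup G).subgroupOf N).Normal := Subgroup.normal_subgroupOf_of_le_normalizer le_rfl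
      have hsup : (P : Subgroup G).subgroupOf N ⊔ L.subgroupOf N = ⊤ := by
        refine eq_top_iff.2 fun g _ => ?_
        obtain ⟨a, ha, l, hl, he⟩ := C.gen g g.2
        rw [show g = (⟨a, hPN ha⟩ : N) * ⟨l, C.le hl⟩ from Subtype.ext he]
        exact mul_mem_sup ha hl
      rw [← Subgroup.card_top (G := N), ← hsup, ← Nat.card_congr (subgroupOfEquivOfLe hPN).toEquiv,
        ← Nat.card_congr (subgroupOfEquivOfLe C.le).toEquiv, ← Subgroup.card_mul_index
          (((P : Subgroup G).subgroupOf N).subgroupOf ((P : Subgroup G).subgroupOf N ⊔ L.subgroupOf N)),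
        Nat.card_congr (subgroupOfEquivOfLe (le_sup_left : (P : Subgroup G).subgroupOf N ≤ _)).toEquiv]
      refine mul_dvd_mul_left _ ?_
      rw [← relIndex, sup_comm, relIndex_sup_right]
      exact relIndex_dvd_card _ _
    obtain ⟨j, hj⟩ := IsPGroup.iff_card.1 P.2
    rw [hj] at h1
    exact Nat.Coprime.dvd_of_dvd_mul_left (Nat.coprime_pow_primes k j hr hp hrp) h1
  have hRL : (R : Subgroup G) ≤ L := hReq ▸ map_subtype_le _
  have hrG : r ∣ Nat.card G := (hxo ▸ Subgroup.orderOf_dvd_natCard _ hxR : r ∣ _).trans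
    (card_subgroup_dvd_card _)
  obtain ⟨q, hqN, hqC, kq, hkq⟩ := S.exists_pElement_normalizing hrp R hrG
  -- `R` is not central in `N`
  obtain ⟨l₀, hl₀R, hl₀X⟩ : ∃ l₀ ∈ (R : Subgroup G), l₀ ∉ X P L := by
    by_contra! hall
    have hPR : ∀ a ∈ (P : Subgroup G), a ∈ centralizer ((R : Subgroup G) : Set G) := fun a ha =>
      mem_centralizer_iff.2 fun z hz => (mem_centralizer_iff.1 (hall z hz).2 a ha).symm
    have hCR : centralizer ((R : Subgroup G) : Set G) ≤ N := fun g hg =>
      hCx.le (mem_centralizer_singleton_iff.2 (mem_centralizer_iff.1 hg x hxR).symm)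
    have hqP : q ∈ N := mem_normalizer_of_conj fun a ha => hCR (mem_centralizer_iff.2 fun z hz => by
      have hz' : q⁻¹ * z * q ∈ (R : Subgroup G) := by
        have := (mem_normalizer_iff.1 (inv_mem hqN) z).1 hz
        rwa [inv_inv] at this
      have := mem_centralizer_iff.1 (hPR a ha) _ hz'
      calc z * (q * a * q⁻¹) = q * ((q⁻¹ * z * q) * a) * q⁻¹ := by group
        _ = _ := by rw [this]; group)
    have hz' := (FGSev.pElem_iff_isPGroup p q).mp ⟨kq, hkq⟩
    exact hqC (hPR q ((hz'.inf_normalizer_sylow P).le ⟨mem_zpowers q, hqP⟩).2)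
  have hCR : centralizer ((R : Subgroup G) : Set G) = L := by
    refine le_antisymm (fun g hg => ?_) fun g hg => mem_centralizer_iff.2 fun z hz =>
      (S.comm C.card (hRL hz) hg).eq
    obtain ⟨a, ha, l, hl, rfl⟩ := C.gen g (hCx.le (mem_centralizer_singleton_iff.2
      (mem_centralizer_iff.1 hg x hxR).symm))
    have h1 : Commute l₀ a := by
      have h2 : Commute l₀ (a * l) := mem_centralizer_iff.1 hg l₀ hl₀R
      have h3 := h2.mul_right (S.comm C.card (hRL hl₀R) hl).inv_right
      rwa [mul_inv_cancel_right] at h3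
    by_cases ha1 : a = 1
    · rw [ha1, one_mul]; exact hl
    · exact absurd (S.fpf C (hRL hl₀R) ha ha1 h1) hl₀X
  have hq1 : q ≠ 1 := fun h => hqC (h ▸ one_mem _)
  have hkq0 : kq ≠ 0 := fun h => hq1 (orderOf_eq_one_iff.1 (by rw [hkq, h, pow_zero]))
  set c := q ^ p ^ (kq - 1) with hc
  have hco : orderOf c = p := by
    rw [hc, orderOf_pow' _ (pow_pos hp.pos _).ne', hkq, Nat.gcd_eq_right (pow_dvd_pow p (Nat.sub_le _ _)),
      Nat.pow_div (Nat.sub_le _ _) hp.pos, show kq - (kq - 1) = 1 by omega, pow_one]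
  have hcR : c ∈ normalizer ((R : Subgroup G) : Set G) := pow_mem hqN _
  have hnormL : ∀ g ∈ normalizer ((R : Subgroup G) : Set G), ∀ l ∈ L, g * l * g⁻¹ ∈ L := by
    intro g hg l hl
    rw [← hCR] at hl ⊢
    refine mem_centralizer_iff.2 fun z hz => ?_
    have hz' : g⁻¹ * z * g ∈ (R : Subgroup G) := by
      have := (mem_normalizer_iff.1 (inv_mem hg) z).1 hz
      rwa [inv_inv] at this
    have := mem_centralizer_iff.1 hl _ hz'
    calc z * (g * l * g⁻¹) = g * ((g⁻¹ * z * g) * l) * g⁻¹ := by group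
      _ = _ := by rw [this]; group
  have hoC : ∀ g : G, orderOf g = p → g ∈ normalizer ((R : Subgroup G) : Set G) → g ∉ N := by
    intro g hgo hgR hgN
    have hgP : g ∈ (P : Subgroup G) := by
      have hz' := (FGSev.pElem_iff_isPGroup p g).mp ⟨1, by rw [hgo, pow_one]⟩
      exact ((hz'.inf_normalizer_sylow P).le ⟨mem_zpowers g, hgN⟩).2
    have hgL : g ∈ L := hCR ▸ mem_centralizer_iff.2 fun z hz => by
      have hcomm : g * z * g⁻¹ * z⁻¹ = 1 := by
        refine C.inf_eq_bot ?_ (mul_mem (hnormL g hgR z (hRL hz)) (inv_mem (hRL hz)))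
        rw [mul_assoc (g * z), mul_assoc g, ← mul_assoc z]
        exact mul_mem hgP ((mem_normalizer_iff.1 (C.le (hRL hz)) g⁻¹).1 (inv_mem hgP))
      exact (mul_inv_eq_iff_eq_mul.1 (mul_inv_eq_one.1 hcomm)).symm
    have := C.inf_eq_bot hgP hgL
    rw [this, orderOf_one] at hgo
    exact hp.ne_one hgo.symm
  have hpow : ∀ i : ℕ, ¬ p ∣ i → c ^ i ∉ N := fun i hi => hoC _ (by
    rw [orderOf_pow' _ (fun h : i = 0 => hi (h ▸ dvd_zero p)), hco,
      (hp.coprime_iff_not_dvd.2 hi : Nat.Coprime p i), Nat.div_one]) (pow_mem hcR i)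
  have hdisj : ∀ i : ℕ, ¬ p ∣ i → ∀ v ∈ X P L, c ^ i * v * (c ^ i)⁻¹ ∈ X P L → v = 1 := by
    intro i hi v hv hv'
    by_contra hv1
    refine hpow i hi (mem_normalizer_of_conj fun a ha => ?_)
    have hne : c ^ i * v * (c ^ i)⁻¹ ≠ 1 := fun h => hv1 (by
      calc v = (c ^ i)⁻¹ * (c ^ i * v * (c ^ i)⁻¹) * c ^ i := by group
        _ = 1 := by rw [h]; group)
    refine (S.centralizer_X C hv' hne).le (mem_centralizer_singleton_iff.2 ?_)
    have hav : a * v = v * a := mem_centralizer_iff.1 hv.2 a ha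
    calc c ^ i * a * (c ^ i)⁻¹ * (c ^ i * v * (c ^ i)⁻¹) = c ^ i * (a * v) * (c ^ i)⁻¹ := by group
      _ = _ := by rw [hav]; group
  -- the map `X → MulAut`
  have h1p : ¬ p ∣ 1 := fun h => hp.ne_one (Nat.dvd_one.1 h)
  let χ : X P L →* MulAut (zpowers y) := MonoidHom.mk'
    (fun v => ψ ⟨c * v * c⁻¹, hnormL c hcR _ v.2.1⟩) fun v w => by
      rw [← map_mul]
      congr 1
      exact Subtype.ext (by simp [mul_assoc])
  have hχ : Function.Injective χ := (injective_iff_map_eq_one χ).2 fun v hv => by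
    have h := (hψ _).1 hv
    refine Subtype.ext (hdisj 1 h1p _ v.2 ?_)
    rwa [pow_one]
  -- the elements of `L` killed by `r`
  let T : Subgroup L :=
    { carrier := {v | v ^ r = 1}
      one_mem' := one_pow r
      mul_mem' := fun {u v} hu hv => by
        show (u * v) ^ r = 1
        have hc : Commute u v := Subtype.ext (S.comm C.card u.2 v.2).eq
        rw [hc.mul_pow, show u ^ r = 1 from hu, show v ^ r = 1 from hv, one_mul]
      inv_mem' := fun {u} hu => show (u⁻¹) ^ r = 1 by rw [inv_pow, show u ^ r = 1 from hu, inv_one] }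
  have htors : Nat.card {e : MulAut (zpowers y) // e ^ r = 1} ≤ r := by
    haveI := Fintype.ofFinite (MulAut (zpowers y))
    rw [Nat.card_eq_fintype_card, Fintype.card_subtype]
    exact IsCyclic.card_pow_eq_one_le hr.pos
  have hTcard : Nat.card T ≤ r * r := by
    set f := ψ.comp T.subtype
    rw [← f.ker.card_mul_index, index_ker]
    refine Nat.mul_le_mul ?_ ?_
    · refine le_trans ?_ htors
      have hmem : ∀ v : f.ker, ((((v : T) : L) : G)) ∈ X P L := fun v => (hψ _).1 v.2
      refine Nat.card_le_card_of_injective (fun v => ⟨χ ⟨_, hmem v⟩, ?_⟩) fun u v h => ?_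
      · rw [← map_pow]
        refine (congrArg χ (Subtype.ext ?_)).trans (map_one χ)
        show ((((v : T) : L) : G)) ^ r = 1
        exact congrArg Subtype.val (v : T).2
      · exact Subtype.ext (Subtype.ext (Subtype.ext
          (congrArg (fun w : X P L => (w : G)) (hχ (congrArg Subtype.val h)))))
    · refine le_trans ?_ htors
      refine Nat.card_le_card_of_injective (fun e => ⟨e.1, ?_⟩) fun u v h =>
        Subtype.ext (congrArg Subtype.val h :)
      obtain ⟨v, hv⟩ := e.2
      rw [← hv, ← map_pow, show v ^ r = 1 from Subtype.ext v.2, map_one]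
  have hrdvd : r ∣ p - 1 := by
    rw [← hAcard]
    have h1 : orderOf (χ ⟨x, hxX⟩) = r := by
      rw [orderOf_injective χ hχ, Subgroup.orderOf_mk, hxo]
    exact h1 ▸ orderOf_dvd_natCard _
  have hline : ∀ i : ℕ, ∀ j : ℕ, c ^ i * x ^ j * (c ^ i)⁻¹ ∈ L := fun i j =>
    hnormL _ (pow_mem hcR i) _ (pow_mem hxX.1 j)
  have hxr : x ^ r = 1 := by rw [← hxo, pow_orderOf_eq_one]
  have hjne : ∀ j, 0 < j → j < r → x ^ j ≠ 1 := fun j h0 hlt h => by
    have := Nat.le_of_dvd h0 (hxo ▸ orderOf_dvd_of_pow_eq_one h)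
    omega
  have hlines : p * (r - 1) + 1 ≤ Nat.card T := by
    let f : Option (Fin p × Fin (r - 1)) → T := fun o => o.elim 1 fun ij =>
      ⟨⟨_, hline ij.1 (ij.2 + 1)⟩, Subtype.ext (by
        show (c ^ (ij.1 : ℕ) * x ^ ((ij.2 : ℕ) + 1) * (c ^ (ij.1 : ℕ))⁻¹) ^ r = 1
        rw [conj_pow, show (x ^ ((ij.2 : ℕ) + 1)) ^ r = 1 by rw [← pow_mul, mul_comm, pow_mul, hxr, one_pow],
          mul_one, mul_inv_cancel])⟩
    have key : ∀ i i' j j' : ℕ, i < p → i' < p → i' ≤ i → 0 < j → j < r → j' < r →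
        c ^ i * x ^ j * (c ^ i)⁻¹ = c ^ i' * x ^ j' * (c ^ i')⁻¹ → i = i' ∧ j = j' := by
      intro i i' j j' hi hi' hle hj0 hj hj' h
      obtain ⟨d, rfl⟩ := Nat.exists_eq_add_of_le hle
      have h2 : c ^ d * x ^ j * (c ^ d)⁻¹ = x ^ j' := by
        calc c ^ d * x ^ j * (c ^ d)⁻¹ = (c ^ i')⁻¹ * (c ^ (i' + d) * x ^ j * (c ^ (i' + d))⁻¹) * c ^ i' := by
              rw [pow_add]; group
          _ = _ := by rw [h]; group
      rcases Nat.eq_zero_or_pos d with rfl | hd0
      · rw [pow_zero, one_mul, inv_one, mul_one] at h2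
        refine ⟨rfl, ?_⟩
        exact pow_injOn_Iio_orderOf (by rw [hxo]; exact hj) (by rw [hxo]; exact hj') h2
      · exfalso
        exact hjne j hj0 hj (hdisj d (fun hd => by have := Nat.le_of_dvd hd0 hd; omega) _ (pow_mem hxX j)
          (h2 ▸ pow_mem hxX j'))
    have hf : Function.Injective f := by
      have hne : ∀ (i : Fin p) (j : Fin (r - 1)), c ^ (i : ℕ) * x ^ ((j : ℕ) + 1) * (c ^ (i : ℕ))⁻¹ ≠ 1 :=
        fun i j h => hjne ((j : ℕ) + 1) (Nat.succ_pos _) (by have := j.2; omega) (by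
          calc x ^ ((j : ℕ) + 1) = (c ^ (i : ℕ))⁻¹ * (c ^ (i : ℕ) * x ^ ((j : ℕ) + 1) * (c ^ (i : ℕ))⁻¹) * c ^ (i : ℕ) := by group
            _ = 1 := by rw [h]; group)
      rintro (_ | ⟨i, j⟩) (_ | ⟨i', j'⟩) h
      · rfl
      · exact absurd (congrArg (fun w : T => ((w : L) : G)) h).symm (hne i' j')
      · exact absurd (congrArg (fun w : T => ((w : L) : G)) h) (hne i j)
      · have h' : c ^ (i : ℕ) * x ^ ((j : ℕ) + 1) * (c ^ (i : ℕ))⁻¹
            = c ^ (i' : ℕ) * x ^ ((j' : ℕ) + 1) * (c ^ (i' : ℕ))⁻¹ := congrArg (fun w : T => ((w : L) : G)) h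
        rcases le_total (i' : ℕ) i with hle | hle
        · obtain ⟨e1, e2⟩ := key _ _ _ _ i.2 i'.2 hle (Nat.succ_pos _) (by omega) (by omega) h'
          rw [Fin.ext e1, Fin.ext (by omega : (j : ℕ) = j')]
        · obtain ⟨e1, e2⟩ := key _ _ _ _ i'.2 i.2 hle (Nat.succ_pos _) (by omega) (by omega) h'.symm
          rw [Fin.ext e1, Fin.ext (by omega : (j' : ℕ) = j)]
    have := Nat.card_le_card_of_injective f hf
    rwa [Finite.card_option, Nat.card_prod, Nat.card_fin, Nat.card_fin] at this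
  have hr2 : r = 2 ∧ p = 3 := by
    have h2 := hlines.trans hTcard
    have hr2' := hr.two_le
    have hle : p ≤ r + 1 := by
      obtain ⟨r', rfl⟩ : ∃ r', r = r' + 2 := ⟨r - 2, by omega⟩
      by_contra hcon
      have := Nat.mul_le_mul_right (r' + 1) (show r' + 4 ≤ p by omega)
      simp only [show r' + 2 - 1 = r' + 1 by omega] at h2
      nlinarith
    have hge : r ≤ p - 1 := Nat.le_of_dvd (by have := hp.two_le; omega) hrdvd
    have hrp1 : p = r + 1 := by omega
    rcases Nat.Prime.eq_two_or_odd hr with h | h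
    · exact ⟨h, by omega⟩
    · rcases Nat.Prime.eq_two_or_odd hp with h' | h'
      · exact absurd h' hp2
      · omega
  obtain ⟨rfl, rfl⟩ := hr2
  -- `L` is a four group
  have hA2 : Nat.card (MulAut (zpowers y)) = 2 := hAcard
  have hX2 : Nat.card (X P L) = 2 := by
    have h1 := Nat.card_le_card_of_injective χ hχ
    have h2 := Nat.le_of_dvd Nat.card_pos hrd
    omega
  have hLT : ∀ l : L, l ^ 2 = 1 := by
    have hle : Nat.card L ≤ 4 := by
      rw [← ψ.ker.card_mul_index, index_ker]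
      refine le_trans (Nat.mul_le_mul (n₂ := 2) (m₂ := 2) ?_ ?_) le_rfl
      · rw [← hX2]
        exact Nat.card_le_card_of_injective (fun v : ψ.ker => (⟨((v : L) : G), (hψ _).1 v.2⟩ : X P L))
          fun u v h => Subtype.ext (Subtype.ext (congrArg (fun w : X P L => (w : G)) h))
      · rw [← hA2]
        exact Nat.card_le_card_of_injective Subtype.val Subtype.val_injective
    have htop : T = ⊤ := eq_top_of_le_card _ (by have := hlines; omega)
    intro l
    exact (htop ▸ mem_top l : l ∈ T)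
  have hL4 : Nat.card L = 4 := by
    refine le_antisymm ?_ ?_
    · rw [← ψ.ker.card_mul_index, index_ker]
      refine le_trans (Nat.mul_le_mul (n₂ := 2) (m₂ := 2) ?_ ?_) le_rfl
      · rw [← hX2]
        exact Nat.card_le_card_of_injective (fun v : ψ.ker => (⟨((v : L) : G), (hψ _).1 v.2⟩ : X P L))
          fun u v h => Subtype.ext (Subtype.ext (congrArg (fun w : X P L => (w : G)) h))
      · rw [← hA2]
        exact Nat.card_le_card_of_injective Subtype.val Subtype.val_injective
    · have := hlines.trans (Nat.le_of_dvd Nat.card_pos (card_subgroup_dvd_card T))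
      omega
  have hX' : ∀ v ∈ X P L, v = 1 ∨ v = x := by
    intro v hv
    by_contra! h
    let g : Fin 3 → X P L := ![1, ⟨x, hxX⟩, ⟨v, hv⟩]
    have hg : Function.Injective g := by
      intro i j
      fin_cases i <;> fin_cases j <;> simp [g, Subtype.ext_iff, h.1, h.2, hx1, Ne.symm h.1, Ne.symm h.2, Ne.symm hx1]
    have := Nat.card_le_card_of_injective g hg
    rw [Nat.card_fin, hX2] at this
    omega
  have hRL' : (R : Subgroup G) = L := by
    haveI : Fact (Nat.Prime 2) := ⟨Nat.prime_two⟩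
    refine eq_of_le_of_card_ge hRL ?_
    rw [hReq, card_map_of_injective L.subtype_injective]
    show _ ≤ Nat.card (R₀ : Subgroup L)
    rw [Sylow.card_eq_multiplicity R₀, hL4, show (4 : ℕ) = 2 ^ 2 from rfl, Nat.prime_two.factorization_pow,
      Finsupp.single_eq_same]
  -- all involutions are conjugate to `x`
  have hconj : ∀ t : G, orderOf t = 2 → ∃ g : G, t = g * x * g⁻¹ := by
    haveI : Fact (Nat.Prime 2) := ⟨Nat.prime_two⟩
    intro t ht
    obtain ⟨Q, hQ⟩ := FGSev.pElem_exists_sylow (p := 2) (g := t) ⟨1, by rw [ht, pow_one]⟩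
    obtain ⟨g, hg⟩ := MulAction.exists_smul_eq G R Q
    rw [← hg, Sylow.coe_subgroup_smul, hRL'] at hQ
    obtain ⟨v, hv, hvt⟩ := hQ
    -- the conjugates of `x` under `c` exhaust `L`
    have hall : v = 1 ∨ ∃ i : ℕ, v = c ^ i * x * (c ^ i)⁻¹ := by
      by_contra! hv'
      have hb : ∀ i, c ^ i * x * (c ^ i)⁻¹ ∈ L := fun i => by simpa using hline i 1
      let f : Fin 5 → L := ![1, ⟨v, hv⟩, ⟨_, hb 0⟩, ⟨_, hb 1⟩, ⟨_, hb 2⟩]
      have n1 : ∀ i, c ^ i * x * (c ^ i)⁻¹ ≠ 1 := fun i h => hx1 (by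
        calc x = (c ^ i)⁻¹ * (c ^ i * x * (c ^ i)⁻¹) * c ^ i := by group
          _ = 1 := by rw [h]; group)
      have n2 : ∀ i d : ℕ, ¬ 3 ∣ d → c ^ (i + d) * x * (c ^ (i + d))⁻¹ ≠ c ^ i * x * (c ^ i)⁻¹ := by
        intro i d hd h
        refine hx1 (hdisj d hd x hxX ?_)
        have h2 : c ^ d * x * (c ^ d)⁻¹ = x := by
          calc c ^ d * x * (c ^ d)⁻¹ = (c ^ i)⁻¹ * (c ^ (i + d) * x * (c ^ (i + d))⁻¹) * c ^ i := by
                rw [pow_add]; group
            _ = x := by rw [h]; group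
        rw [h2]; exact hxX
      have d01 := n2 0 1 (by norm_num)
      have d02 := n2 0 2 (by norm_num)
      have d12 := n2 1 1 (by norm_num)
      simp only [show (1 : ℕ) + 1 = 2 from rfl, zero_add] at d01 d02 d12
      have hf : Function.Injective f := by
        intro i j
        fin_cases i <;> fin_cases j <;>
          simp only [f, Subtype.ext_iff, Subgroup.coe_one, Matrix.cons_val, Matrix.cons_val_zero,
            Matrix.cons_val_one, Fin.isValue, Fin.reduceFinMk] <;> intro h <;>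
          first
            | rfl
            | trivial
            | exact absurd h hv'.1
            | exact absurd h.symm hv'.1
            | exact absurd h (hv'.2 _)
            | exact absurd h.symm (hv'.2 _)
            | exact absurd h (n1 _)
            | exact absurd h.symm (n1 _)
            | exact absurd h d01
            | exact absurd h.symm d01
            | exact absurd h d02
            | exact absurd h.symm d02
            | exact absurd h d12
            | exact absurd h.symm d12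
      have := Nat.card_le_card_of_injective f hf
      rw [Nat.card_fin, hL4] at this
      omega
    rcases hall with h | ⟨i, h⟩
    · exfalso
      have ht1 : t = 1 := by rw [← hvt, h]; simp
      rw [ht1, orderOf_one] at ht
      omega
    · refine ⟨g * c ^ i, ?_⟩
      rw [← hvt, h]
      show g * (c ^ i * x * (c ^ i)⁻¹) * g⁻¹ = _
      group
  have hl2 : ∀ l ∈ L, l * l = 1 := fun l hl => by
    have h := congrArg Subtype.val (hLT ⟨l, hl⟩)
    rw [← pow_two]; exact h
  have hinv : ∀ l ∈ L, l ∉ X P L → ∀ a ∈ (P : Subgroup G), l * a * l⁻¹ = a⁻¹ := by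
    intro l hl hlX a ha
    have hmem := (mem_normalizer_iff.1 (C.le hl) a).1 ha
    by_contra hne
    set b := a * (l * a * l⁻¹) with hb
    have hb1 : b ≠ 1 := fun h1 => hne (eq_inv_of_mul_eq_one_right h1)
    refine hlX (S.fpf C hl (mul_mem ha hmem) hb1 ?_)
    show l * b = b * l
    rw [hb, (sylow_comm P S.cyc ha hmem).eq]
    conv_rhs => rw [← (sylow_comm P S.cyc ha hmem).eq]
    rw [inv_eq_of_mul_eq_one_left (hl2 l hl)]
    simp only [mul_assoc, hl2 l hl, mul_one]
    rw [← mul_assoc l l, hl2 l hl, one_mul]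
  have hxo2 : orderOf x = 2 := hxo
  have hNinv : ∀ s, (orderOf s = 2 ∧ s ∈ N ∧ s ≠ x) ↔
      ∃ a ∈ (P : Subgroup G), ∃ l ∈ L, l ∉ X P L ∧ s = a * l := by
    intro s
    constructor
    · rintro ⟨hs, hsN, hsx⟩
      obtain ⟨a, ha, l, hl, rfl⟩ := C.gen s hsN
      refine ⟨a, ha, l, hl, fun hlX' => ?_, rfl⟩
      have hal : Commute a l := mem_centralizer_iff.1 hlX'.2 a ha
      have h1 : a * a = 1 := by
        have h : (a * l) * (a * l) = 1 := by rw [← pow_two, ← hs, pow_orderOf_eq_one]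
        have h' : (a * l) * (a * l) = (a * a) * (l * l) := hal.symm.mul_mul_mul_comm a l
        rw [hl2 l hl, mul_one] at h'
        rw [← h', h]
      have ha1 : a = 1 := by
        obtain ⟨j, hj⟩ := FGSev.pElem_of_mem P.2 ha
        have hd : 3 ^ j ∣ 2 := hj ▸ orderOf_dvd_of_pow_eq_one (by rw [pow_two, h1])
        rcases Nat.eq_zero_or_pos j with h0 | h0
        · exact orderOf_eq_one_iff.1 (by rw [hj, h0, pow_zero])
        · exact absurd ((dvd_pow_self 3 h0.ne').trans hd) (by norm_num)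
      rw [ha1, one_mul] at hs hsx
      rcases hX' l hlX' with h | h
      · rw [h, orderOf_one] at hs; omega
      · exact hsx h
    · rintro ⟨a, ha, l, hl, hlX', rfl⟩
      have hl1 : l ≠ 1 := fun h => hlX' (h ▸ one_mem _)
      have hne : a * l ≠ 1 := fun h => hl1 (C.inf_eq_bot
        (by rw [show l = a⁻¹ * (a * l) by group, h, mul_one]; exact inv_mem ha) hl)
      refine ⟨orderOf_eq_prime ?_ hne, mul_mem (le_normalizer ha) (C.le hl), fun h => hlX' ?_⟩
      · rw [pow_two, show a * l * (a * l) = a * (l * a * l⁻¹) * (l * l) by group, hinv l hl hlX' a ha,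
          mul_inv_cancel, hl2 l hl, mul_one]
      · have ha1 : a = 1 := by
          refine C.inf_eq_bot ha ?_
          rw [show a = a * l * l⁻¹ by group, h]
          exact mul_mem hxX.1 (inv_mem hl)
        rw [ha1, one_mul] at h
        exact h ▸ hxX
  have hdegx : Nat.card {s : G // orderOf s = 2 ∧ s ∈ N ∧ s ≠ x} = 2 * Nat.card (P : Subgroup G) := by
    have hout : Nat.card {l : L // (l : G) ∉ X P L} = 2 := by
      haveI := Fintype.ofFinite L
      rw [Nat.card_eq_fintype_card, Fintype.card_subtype_compl, ← Nat.card_eq_fintype_card,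
        ← Nat.card_eq_fintype_card, hL4, Nat.card_congr
          (show {l : L // (l : G) ∈ X P L} ≃ X P L from
            ⟨fun l => ⟨_, l.2⟩, fun v => ⟨⟨v.1, v.2.1⟩, v.2⟩, fun _ => rfl, fun _ => rfl⟩), hX2]
    conv_rhs => arg 1; rw [← hout]
    rw [← Nat.card_prod]
    refine (Nat.card_eq_of_bijective (fun q : {l : L // (l : G) ∉ X P L} × (P : Subgroup G) =>
      (⟨(q.2 : G) * (q.1.1 : G), (hNinv _).2 ⟨_, q.2.2, _, q.1.1.2, q.1.2, rfl⟩⟩ :
        {s : G // orderOf s = 2 ∧ s ∈ N ∧ s ≠ x})) ⟨?_, ?_⟩).symm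
    · rintro ⟨⟨⟨l, hl⟩, hlX1⟩, ⟨a, ha⟩⟩ ⟨⟨⟨l', hl'⟩, hlX2⟩, ⟨a', ha'⟩⟩ h
      have h' : a * l = a' * l' := congrArg Subtype.val h
      have e : a'⁻¹ * a = 1 := C.inf_eq_bot (mul_mem (inv_mem ha') ha) (by
        rw [show a'⁻¹ * a = a'⁻¹ * (a * l) * l⁻¹ by group, h', show a'⁻¹ * (a' * l') * l⁻¹ = l' * l⁻¹ by group]
        exact mul_mem hl' (inv_mem hl))
      obtain rfl : a' = a := inv_mul_eq_one.1 e
      obtain rfl : l = l' := mul_left_cancel h'
      rfl
    · rintro ⟨s, hs⟩
      obtain ⟨a, ha, l, hl, hlX', rfl⟩ := (hNinv s).1 hs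
      exact ⟨(⟨⟨l, hl⟩, hlX'⟩, ⟨a, ha⟩), rfl⟩
  -- the commuting graph
  let V := {s : G // orderOf s = 2}
  haveI : Nonempty V := ⟨⟨x, hxo2⟩⟩
  let Rel : V → V → Prop := fun s t => s ≠ t ∧ Commute s.1 t.1
  have hCN : ∀ t : G, t ∈ N ↔ Commute t x := fun t => by
    show t ∈ normalizer ((P : Subgroup G) : Set G) ↔ _
    rw [← hCx, mem_centralizer_singleton_iff]
    rfl
  have hmv : ∀ g a b : G, Commute (g * a * g⁻¹) (g * b * g⁻¹) ↔ Commute a b := fun g a b => by
    refine ⟨fun h => ?_, fun h => h.map (MulAut.conj g).toMonoidHom⟩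
    simpa [mul_assoc] using h.map (MulAut.conj g⁻¹).toMonoidHom
  have horder : ∀ g a : G, orderOf (g * a * g⁻¹) = orderOf a := fun g a => by
    rw [show g * a * g⁻¹ = MulAut.conj g a from rfl, MulEquiv.orderOf_eq]
  refine MixedPrime.no_friendship Rel (fun u v h => ⟨h.1.symm, h.2.symm⟩) (fun v h => h.1 rfl)
    (2 * Nat.card (P : Subgroup G)) ?_ ?_ ?_
  · have := (one_lt_card_iff_ne_bot _).2 S.nontriv
    omega
  · rintro ⟨t, ht⟩
    obtain ⟨g, rfl⟩ := hconj t ht
    rw [← hdegx]
    refine Nat.card_eq_of_bijective (fun w => ⟨g⁻¹ * w.1.1 * g, ?_⟩) ⟨?_, ?_⟩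
    · refine ⟨?_, (hCN _).2 ?_, fun h => w.2.1 (Subtype.ext ?_)⟩
      · rw [← horder g, show g * (g⁻¹ * w.1.1 * g) * g⁻¹ = w.1.1 by group]; exact w.1.2
      · rw [← hmv g, show g * (g⁻¹ * w.1.1 * g) * g⁻¹ = w.1.1 by group]
        exact w.2.2.symm
      · show g * x * g⁻¹ = w.1.1
        calc g * x * g⁻¹ = g * (g⁻¹ * w.1.1 * g) * g⁻¹ := by rw [h]
          _ = w.1.1 := by group
    · intro u v h
      exact Subtype.ext (Subtype.ext (mul_left_cancel (mul_right_cancel (congrArg Subtype.val h))))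
    · rintro ⟨s, hs, hsN, hsx⟩
      refine ⟨⟨⟨g * s * g⁻¹, by rw [horder, hs]⟩, fun h => hsx ?_, ((hmv g _ _).2 ((hCN s).1 hsN)).symm⟩,
        Subtype.ext ?_⟩
      · exact (mul_left_cancel (mul_right_cancel (congrArg Subtype.val h))).symm
      · show g⁻¹ * (g * s * g⁻¹) * g = s
        group
  -- a four group is a Sylow 2-subgroup, so self-centralising
  have hfour : ∀ a b c : G, orderOf a = 2 → orderOf b = 2 → a ≠ b → Commute a b → Commute c a → Commute c b →
      c = 1 ∨ c = a ∨ c = b ∨ c = a * b := by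
    intro a b c ha hb hne hab hca hcb
    haveI : Fact (Nat.Prime 2) := ⟨Nat.prime_two⟩
    have ha2 : a * a = 1 := by rw [← pow_two, ← ha, pow_orderOf_eq_one]
    have hb2 : b * b = 1 := by rw [← pow_two, ← hb, pow_orderOf_eq_one]
    have ha1 : a ≠ 1 := fun h => by rw [h, orderOf_one] at ha; omega
    have hb1 : b ≠ 1 := fun h => by rw [h, orderOf_one] at hb; omega
    have hba : b * a = a * b := hab.eq.symm
    let W : Subgroup G :=
      { carrier := {1, a, b, a * b}
        one_mem' := Or.inl rfl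
        inv_mem' := by
          rintro z (rfl | rfl | rfl | rfl)
          · simp
          · simp [inv_eq_of_mul_eq_one_left ha2]
          · simp [inv_eq_of_mul_eq_one_left hb2]
          · simp [inv_eq_of_mul_eq_one_left ha2, inv_eq_of_mul_eq_one_left hb2, hba]
        mul_mem' := by
          have e1 : a * (a * b) = b := by rw [← mul_assoc, ha2, one_mul]
          have e2 : b * (a * b) = a := by rw [← mul_assoc, hba, mul_assoc, hb2, mul_one]
          have e3 : a * b * a = b := by rw [mul_assoc, hba, e1]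
          have e4 : a * b * b = a := by rw [mul_assoc, hb2, mul_one]
          have e5 : a * b * (a * b) = 1 := by rw [mul_assoc, e2, ha2]
          rintro z w (rfl | rfl | rfl | rfl) (rfl | rfl | rfl | rfl) <;>
            simp [ha2, hb2, hba, e1, e2, e3, e4, e5] }
    have hW : Nat.card W = 4 := by
      have hset : ({1, a, b, a * b} : Set G).ncard = 4 := by
        rw [Set.ncard_eq_toFinset_card']
        simp only [Set.toFinset_insert, Set.toFinset_singleton]
        rw [Finset.card_insert_of_notMem, Finset.card_insert_of_notMem, Finset.card_insert_of_notMem,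
          Finset.card_singleton]
        · simp only [Finset.mem_singleton]
          exact fun h => ha1 (mul_eq_right.1 h.symm)
        · simp only [Finset.mem_insert, Finset.mem_singleton, not_or]
          exact ⟨hne, fun h => hb1 (mul_eq_left.1 h.symm)⟩
        · simp only [Finset.mem_insert, Finset.mem_singleton, not_or]
          refine ⟨Ne.symm ha1, Ne.symm hb1, fun h => hne ?_⟩
          calc a = a * (a * b) := by rw [← h, mul_one]
            _ = b := by rw [← mul_assoc, ha2, one_mul]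
      rw [← hset, ← Nat.card_coe_set_eq]
      rfl
    obtain ⟨Q, hQ⟩ := (IsPGroup.of_card (n := 2) (show Nat.card W = 2 ^ 2 by rw [hW]; rfl)).exists_le_sylow
    obtain ⟨g, hg⟩ := MulAction.exists_smul_eq G R Q
    have hQc : (Q : Subgroup G) = L.map (MulAut.conj g).toMonoidHom := by
      rw [← hg, Sylow.coe_subgroup_smul, hRL']; rfl
    have hQW : W = (Q : Subgroup G) := eq_of_le_of_card_ge hQ (by
      rw [hQc, card_map_of_injective (f := (MulAut.conj g).toMonoidHom) (MulAut.conj g).injective, hL4, hW])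
    have hcW : c ∈ centralizer (W : Set G) := by
      refine mem_centralizer_iff.2 fun z hz => ?_
      rcases hz with rfl | rfl | rfl | rfl
      · simp
      · exact hca.eq.symm
      · exact hcb.eq.symm
      · exact (hca.mul_right hcb).eq.symm
    have : c ∈ W := by
      rw [hQW, hQc] at hcW ⊢
      refine ⟨g⁻¹ * c * g, ?_, by show g * (g⁻¹ * c * g) * g⁻¹ = c; group⟩
      show g⁻¹ * c * g ∈ L
      rw [← hCR, hRL']
      refine mem_centralizer_iff.2 fun z hz => ?_
      have := mem_centralizer_iff.1 hcW (g * z * g⁻¹) ⟨z, hz, rfl⟩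
      calc z * (g⁻¹ * c * g) = g⁻¹ * ((g * z * g⁻¹) * c) * g := by group
        _ = _ := by rw [this]; group
    rcases this with h | h | h | h
    exacts [Or.inl h, Or.inr (Or.inl h), Or.inr (Or.inr (Or.inl h)), Or.inr (Or.inr (Or.inr h))]
  rintro ⟨s, hs⟩ ⟨t, ht⟩ hst
  have hst' : s ≠ t := fun h => hst (Subtype.ext h)
  have hss : s * s = 1 := by rw [← pow_two, ← hs, pow_orderOf_eq_one]
  have htt : t * t = 1 := by rw [← pow_two, ← ht, pow_orderOf_eq_one]
  rw [Nat.card_eq_one_iff_unique]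
  by_cases hcom : Commute s t
  · have hu : orderOf (s * t) = 2 := by
      refine orderOf_eq_prime ?_ fun h => hst' ?_
      · rw [pow_two, hcom.symm.mul_mul_mul_comm s t, hss, htt, one_mul]
      · calc s = s * (t * t) := by rw [htt, mul_one]
          _ = t := by rw [← mul_assoc, h, one_mul]
    have hs1 : s ≠ 1 := fun h => by rw [h, orderOf_one] at hs; omega
    have ht1 : t ≠ 1 := fun h => by rw [h, orderOf_one] at ht; omega
    refine ⟨⟨fun ⟨⟨a, ha⟩, h1, h2⟩ ⟨⟨b, hb⟩, h3, h4⟩ => ?_⟩, ⟨⟨⟨s * t, hu⟩, ⟨?_, ?_⟩, ⟨?_, ?_⟩⟩⟩⟩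
    · have key : ∀ c : G, orderOf c = 2 → c ≠ s → c ≠ t → Commute s c → Commute t c → c = s * t := by
        intro c hc hcs hct h h'
        rcases hfour s t c hs ht hst' hcom h.symm h'.symm with e | e | e | e
        · rw [e, orderOf_one] at hc; omega
        · exact absurd e hcs
        · exact absurd e hct
        · exact e
      have ea := key a ha (fun h => h1.1 (Subtype.ext h.symm)) (fun h => h2.1 (Subtype.ext h.symm)) h1.2 h2.2
      have eb := key b hb (fun h => h3.1 (Subtype.ext h.symm)) (fun h => h4.1 (Subtype.ext h.symm)) h3.2 h4.2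
      exact Subtype.ext (Subtype.ext (ea.trans eb.symm))
    · exact fun h => ht1 (mul_eq_left.1 (congrArg Subtype.val h).symm)
    · exact (Commute.refl s).mul_right hcom
    · exact fun h => hs1 (mul_eq_right.1 (congrArg Subtype.val h).symm)
    · exact hcom.symm.mul_right (Commute.refl t)
  · set u := t * s with hu
    have hd : 3 ∣ orderOf u := S.dvd_orderOf_mul hp2 hs ht (fun h => hcom h.symm)
    set u' := u ^ (orderOf u / 3) with hu'
    have hu'o : orderOf u' = 3 := orderOf_pow_orderOf_div (orderOf_pos u).ne' hd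
    obtain ⟨g, hg⟩ := exists_conj_mem P hu'o
    set v := g⁻¹ * u' * g with hv
    have hv1 : v ≠ 1 := fun h => by
      have : u' = 1 := by rw [show u' = g * v * g⁻¹ by rw [hv]; group, h]; group
      rw [this, orderOf_one] at hu'o
      omega
    have htu : t * u' * t⁻¹ = u'⁻¹ := by
      rw [hu', ← conj_pow, ← inv_pow]
      congr 1
      rw [hu, mul_inv_rev, inv_eq_of_mul_eq_one_left htt, inv_eq_of_mul_eq_one_left hss, ← mul_assoc t t, htt, one_mul]
    have htN : g⁻¹ * t * g ∈ N := by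
      refine S.mem_normalizer_of_ti hg hv1 ?_
      rw [show g⁻¹ * t * g * v * (g⁻¹ * t * g)⁻¹ = g⁻¹ * (t * u' * t⁻¹) * g by rw [hv]; group, htu,
        show g⁻¹ * u'⁻¹ * g = v⁻¹ by rw [hv]; group]
      exact inv_mem hg
    have hsN : g⁻¹ * s * g ∈ N := by
      rw [show g⁻¹ * s * g = (g⁻¹ * t * g)⁻¹ * (g⁻¹ * u * g) by rw [hu]; group]
      refine mul_mem (inv_mem htN) (S.centralizer_le_normalizer hg hv1 (mem_centralizer_singleton_iff.2 ?_))
      calc g⁻¹ * u * g * v = g⁻¹ * (u * u') * g := by rw [hv]; group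
        _ = g⁻¹ * (u' * u) * g := by rw [hu', ← pow_succ', pow_succ]
        _ = _ := by rw [hv]; group
    have hc0 : ∀ w : G, g⁻¹ * w * g ∈ N → Commute w (g * x * g⁻¹) := fun w hw => by
      have h := (hmv g _ _).2 ((hCN _).1 hw)
      rwa [show g * (g⁻¹ * w * g) * g⁻¹ = w by group] at h
    -- uniqueness
    have key : ∀ c : G, orderOf c = 2 → Commute s c → Commute t c → c = g * x * g⁻¹ := by
      intro c hc hsc htc
      obtain ⟨k, rfl⟩ := hconj c hc
      have huc : Commute u' (k * x * k⁻¹) := ((htc.mul_left hsc).pow_left _)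
      have hN' : k⁻¹ * u' * k ∈ N := by
        rw [hCN, ← hmv k, show k * (k⁻¹ * u' * k) * k⁻¹ = u' by group]
        exact huc
      have hP' : k⁻¹ * u' * k ∈ (P : Subgroup G) := by
        have hz' := (FGSev.pElem_iff_isPGroup 3 (k⁻¹ * u' * k)).mp ⟨1, by
          rw [show k⁻¹ * u' * k = MulAut.conj k⁻¹ u' by simp, MulEquiv.orderOf_eq, hu'o, pow_one]⟩
        exact ((hz'.inf_normalizer_sylow P).le ⟨mem_zpowers _, hN'⟩).2
      have hmem : k⁻¹ * g ∈ N := by
        refine S.mem_normalizer_of_ti hg hv1 ?_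
        rw [show k⁻¹ * g * v * (k⁻¹ * g)⁻¹ = k⁻¹ * u' * k by rw [hv]; group]
        exact hP'
      have h1 := (hCN _).1 hmem
      calc k * x * k⁻¹ = k * (x * (k⁻¹ * g)) * g⁻¹ := by group
        _ = _ := by rw [← h1.eq]; group
    refine ⟨⟨fun ⟨⟨a, ha⟩, h1, h2⟩ ⟨⟨b, hb⟩, h3, h4⟩ => ?_⟩,
      ⟨⟨⟨g * x * g⁻¹, by rw [horder, hxo2]⟩, ⟨?_, hc0 s hsN⟩, ⟨?_, hc0 t htN⟩⟩⟩⟩
    · exact Subtype.ext (Subtype.ext ((key a ha h1.2 h2.2).trans (key b hb h3.2 h4.2).symm))
    · intro h
      have e : s = g * x * g⁻¹ := congrArg Subtype.val h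
      exact hcom (e ▸ (hc0 t htN).symm)
    · intro h
      have e : t = g * x * g⁻¹ := congrArg Subtype.val h
      exact hcom (e ▸ hc0 s hsN)

end Cfsg.Agent.CyclicSylowAb
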