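import Cfsg.Agent.CyclicSylowAb.Basic
import Cfsg.Agent.Transfer.Frobenius
import Cfsg.Agent.S0182
import Mathlib.GroupTheory.GroupAction.Quotient

/-!
The case where no `p'`-element centralises a Sylow `p`-subgroup.
-/

set_option autoImplicit false
set_option linter.style.haveILetI false
set_option linter.unusedSectionVars false

namespace Cfsg.Agent.CyclicSylowAb

open Subgroup

variable {G : Type*} [Group G] [Finite G] {p : ℕ} [Fact p.Prime] {P : Sylow p G} {L : Subgroup G}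

theorem Setup.not_solvable (S : Setup P) : ¬ Group.IsSolvable G := fun _ => by
  haveI := S.simple
  obtain ⟨a, b, hab⟩ := S.nonab
  exact hab (IsSimpleGroup.comm_iff_isSolvable.2 ‹_› a b)

theorem Setup.not_hasNPC_other (S : Setup P) {r : ℕ} [Fact r.Prime] (hr : r ∣ Nat.card G) :
    ¬ Cfsg.HasNormalPComplement r G := by
  rintro ⟨R, N, hN, hc⟩
  have hidx := hc.symm.index_eq_card
  rcases S.eq_bot_or_top hN with rfl | rfl
  · refine S.not_solvable ?_
    rw [index_bot] at hidx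
    have hG : IsPGroup r G := fun g => by
      have htop : (R : Subgroup G) = ⊤ := eq_top_of_card_eq _ hidx.symm
      obtain ⟨k, hk⟩ := R.2 ⟨g, htop ▸ mem_top g⟩
      exact ⟨k, congrArg Subtype.val hk⟩
    haveI := hG.isNilpotent
    infer_instance
  · rw [index_top] at hidx
    exact R.ne_bot_of_dvd_card hr (card_eq_one.1 hidx.symm)

/-- Every involution-containing abelian Sylow subgroup is moved by a `p`-element. -/
theorem Setup.exists_pElement_normalizing (S : Setup P) {r : ℕ} [Fact r.Prime] (hrp : r ≠ p)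
    (R : Sylow r G) (hr : r ∣ Nat.card G) :
    ∃ q ∈ normalizer ((R : Subgroup G) : Set G), q ∉ centralizer ((R : Subgroup G) : Set G) ∧
      ∃ k, orderOf q = p ^ k := by
  have hRp : ¬ p ∣ Nat.card (R : Subgroup G) := by
    obtain ⟨k, hk⟩ := IsPGroup.iff_card.1 R.2
    rw [hk]
    exact fun h => hrp ((Nat.prime_dvd_prime_iff_eq Fact.out Fact.out).1
      ((Fact.out : p.Prime).dvd_of_dvd_pow h)).symm
  obtain ⟨g, hg, hgC⟩ := SetLike.not_le_iff_exists.1
    (fun h => S.not_hasNPC_other hr (Transfer.hasNormalPComplement_of_normalizer_le_centralizer R h))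
  refine ⟨Element.pPart p g, zpowers_le.2 hg (Element.pPart_mem_zpowers p g), fun hqC => hgC ?_,
    ⟨_, Element.orderOf_pPart_eq_pow Fact.out g⟩⟩
  rw [← Element.pPart_mul_pComplPart p g]
  refine mul_mem hqC (mem_centralizer_iff.2 fun x hx => ?_)
  exact (S.comm (not_dvd_card_sup_zpowers hRp (zpowers_le.2 hg (Element.pComplPart_mem_zpowers p g))
    (Element.coprime_orderOf_pComplPart Fact.out g)) (mem_sup_left hx) (mem_sup_right (mem_zpowers _))).eq

theorem mem_normalizer_iff_smul (g : G) (Q : Sylow p G) :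
    g ∈ normalizer ((Q : Subgroup G) : Set G) ↔ g • Q = Q := Sylow.smul_eq_iff_mem_normalizer.symm

theorem two_ne (S : Setup P) : p ≠ 2 := by
  intro h2
  obtain ⟨L, C⟩ := exists_compl P
  obtain ⟨y, hy, hyo⟩ := S.exists_y
  obtain ⟨ψ, hψ⟩ := S.exists_psi C hy hyo
  obtain ⟨l, hl, hlX⟩ := S.exists_notMem_X C
  refine hlX ((hψ ⟨l, hl⟩).1 ?_)
  have hcard := (mulAut_zpowers hyo).2
  subst h2
  haveI := (Nat.card_eq_one_iff_unique.1 hcard).1
  exact Subsingleton.elim _ _

theorem Setup.no_trivial_X (S : Setup P) (C : Compl P L) (hX : X P L = ⊥) : False := by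
  classical
  have hp : p.Prime := Fact.out
  have hp2 := two_ne S
  obtain ⟨y, hy, hyo⟩ := S.exists_y
  have hy1 : y ≠ 1 := fun h => by rw [h, orderOf_one] at hyo; exact hp.ne_one hyo.symm
  have noC : ∀ m u : G, (orderOf m).Coprime p → orderOf u = p → Commute m u → m = 1 := by
    intro m u hm hu hc
    obtain ⟨g, hg⟩ := S.pLocal C hm hu hc
    rw [hX, mem_bot] at hg
    calc m = g * (g⁻¹ * m * g) * g⁻¹ := by group
      _ = 1 := by rw [hg]; group
  have hCp : ∀ m : G, m ≠ 1 → (orderOf m).Coprime p → ¬ p ∣ Nat.card (centralizer ({m} : Set G)) := by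
    intro m hm1 hm hd
    obtain ⟨u, hu⟩ := exists_prime_orderOf_dvd_card' p hd
    exact hm1 (noC m u hm (by rw [orderOf_coe]; exact hu) (mem_centralizer_singleton_iff.1 u.2).symm)
  by_cases hodd : Odd (Nat.card G)
  · refine S.not_solvable (Cfsg.Agent.S0182.result hodd fun x hx a ha b hb => ?_)
    by_cases hm : Element.pComplPart p x = 1
    · have hxp : x = Element.pPart p x := by
        conv_lhs => rw [← Element.pPart_mul_pComplPart p x, hm, mul_one]
      obtain ⟨k, hk⟩ : ∃ k, orderOf x = p ^ k := hxp ▸ ⟨_, Element.orderOf_pPart_eq_pow hp x⟩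
      obtain ⟨Q, hQ⟩ := FGSev.pElem_exists_sylow (p := p) ⟨k, hk⟩
      obtain ⟨g, hg⟩ := MulAction.exists_smul_eq G P Q
      rw [← hg, Sylow.coe_subgroup_smul] at hQ
      obtain ⟨v, hv, rfl⟩ := hQ
      have hv1 : v ≠ 1 := fun h => hx (by rw [h]; exact map_one _)
      have key : ∀ c ∈ centralizer ({MulAut.conj g v} : Set G), ∃ c' ∈ (P : Subgroup G), c = g * c' * g⁻¹ := by
        intro c hc
        refine ⟨g⁻¹ * c * g, ?_, by group⟩
        have hc' : c * (g * v * g⁻¹) = g * v * g⁻¹ * c := mem_centralizer_singleton_iff.1 hc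
        have hcv : Commute (g⁻¹ * c * g) v := by
          show g⁻¹ * c * g * v = v * (g⁻¹ * c * g)
          calc g⁻¹ * c * g * v = g⁻¹ * (c * (g * v * g⁻¹)) * g := by group
            _ = _ := by rw [hc']; group
        obtain ⟨a', ha', l, hl, he⟩ := C.gen _ (S.centralizer_le_normalizer hv hv1
          (mem_centralizer_singleton_iff.2 hcv.eq))
        have hlX := S.fpf C hl hv hv1 (by
          rw [show l = a'⁻¹ * (g⁻¹ * c * g) by rw [he, inv_mul_cancel_left]]
          exact (sylow_comm P S.cyc ha' hv).inv_left.mul_left hcv)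
        rw [hX, mem_bot] at hlX
        rw [he, hlX, mul_one]; exact ha'
      obtain ⟨a', ha', rfl⟩ := key a ha
      obtain ⟨b', hb', rfl⟩ := key b hb
      exact ((Commute.map (sylow_comm P S.cyc ha' hb') (MulAut.conj g).toMonoidHom)).eq
    · have hm' := Element.coprime_orderOf_pComplPart hp x
      have hle : ∀ c ∈ centralizer ({x} : Set G), c ∈ centralizer ({Element.pComplPart p x} : Set G) :=
        fun c hc => mem_centralizer_singleton_iff.2
          (Element.commute_pComplPart (p := p) (mem_centralizer_singleton_iff.1 hc : Commute c x)).eq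
      exact (S.comm (hCp _ hm hm') (hle a ha) (hle b hb)).eq
  -- even order
  obtain ⟨t, ht⟩ := exists_prime_orderOf_dvd_card' (G := G) 2
    (Nat.even_iff.1 (Nat.not_odd_iff_even.1 hodd) |> Nat.dvd_of_mod_eq_zero)
  have hco2 : ∀ s : G, orderOf s = 2 → (orderOf s).Coprime p := fun s hs => by
    rw [hs]; exact (Nat.coprime_primes Nat.prime_two hp).2 (Ne.symm hp2)
  have hne1 : ∀ s : G, orderOf s = 2 → s ≠ 1 := fun s hs h => by rw [h, orderOf_one] at hs; omega
  set K := centralizer ({t} : Set G) with hK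
  have hKp := hCp t (hne1 t ht) (hco2 t ht)
  have htK : t ∈ K := mem_centralizer_singleton_iff.2 rfl
  -- `p` divides the number of involutions
  let Inv := {s : G // orderOf s = 2}
  letI act : MulAction (P : Subgroup G) Inv :=
    { smul := fun a s => ⟨a * s.1 * (a : G)⁻¹, by
        rw [show (a : G) * s.1 * (a : G)⁻¹ = MulAut.conj (a : G) s.1 from rfl, MulEquiv.orderOf_eq]; exact s.2⟩
      one_smul := fun s => Subtype.ext (show ((1 : (P : Subgroup G)) : G) * s.1 * ((1 : (P : Subgroup G)) : G)⁻¹ = s.1 by simp)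
      mul_smul := fun a b s => Subtype.ext (show ((a * b : (P : Subgroup G)) : G) * s.1 * ((a * b : (P : Subgroup G)) : G)⁻¹
        = (a : G) * ((b : G) * s.1 * (b : G)⁻¹) * (a : G)⁻¹ by rw [Subgroup.coe_mul]; group) }
  have hI : p ∣ Nat.card Inv := by
    have h := P.2.card_modEq_card_fixedPoints Inv
    have h0 : Nat.card (MulAction.fixedPoints (P : Subgroup G) Inv) = 0 := by
      rw [Nat.card_eq_zero]
      refine Or.inl ⟨fun ⟨s, hs⟩ => hne1 _ s.2 (noC s.1 y (hco2 _ s.2) hyo ?_)⟩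
      have h1 : y * s.1 * y⁻¹ = s.1 := congrArg Subtype.val (hs ⟨y, hy⟩)
      exact (mul_inv_eq_iff_eq_mul.1 h1).symm
    rw [h0] at h
    exact Nat.modEq_zero_iff_dvd.1 h
  -- `p` divides the number of involutions of `K`
  let InvK := {s : G // orderOf s = 2 ∧ s ∈ K}
  have hIK : p ∣ Nat.card InvK := by
    obtain ⟨R, hR⟩ := (IsPGroup.of_card (n := 1) (show Nat.card (zpowers t) = 2 ^ 1 by
      rw [Nat.card_zpowers, ht, pow_one])).exists_le_sylow
    obtain ⟨q, hqN, hqC, k, hk⟩ := S.exists_pElement_normalizing (Ne.symm hp2) R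
      (Nat.even_iff.1 (Nat.not_odd_iff_even.1 hodd) |> Nat.dvd_of_mod_eq_zero)
    have hRp : ¬ p ∣ Nat.card (R : Subgroup G) := by
      obtain ⟨j, hj⟩ := IsPGroup.iff_card.1 R.2
      rw [hj]
      exact fun h => hp2 ((Nat.prime_dvd_prime_iff_eq hp Nat.prime_two).1 (hp.dvd_of_dvd_pow h))
    have htR : t ∈ (R : Subgroup G) := hR (mem_zpowers t)
    have hRK : (R : Subgroup G) ≤ K := fun x hx =>
      mem_centralizer_singleton_iff.2 (S.comm hRp hx htR).eq
    have hCR : centralizer ((R : Subgroup G) : Set G) = K := le_antisymm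
      (fun x hx => mem_centralizer_singleton_iff.2 (mem_centralizer_iff.1 hx t htR).symm)
      (fun x hx => mem_centralizer_iff.2 fun z hz => (S.comm hKp (hRK hz) hx).eq)
    have hQK : ∀ a ∈ zpowers q, ∀ s ∈ K, a * s * a⁻¹ ∈ K := by
      intro a ha s hs
      have haN : a ∈ normalizer ((R : Subgroup G) : Set G) := zpowers_le.2 hqN ha
      rw [← hCR] at hs ⊢
      refine mem_centralizer_iff.2 fun z hz => ?_
      have hz' : a⁻¹ * z * a ∈ (R : Subgroup G) := by
        have := (mem_normalizer_iff.1 (inv_mem haN) z).1 hz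
        rwa [inv_inv] at this
      have := mem_centralizer_iff.1 hs _ hz'
      calc z * (a * s * a⁻¹) = a * ((a⁻¹ * z * a) * s) * a⁻¹ := by group
        _ = _ := by rw [this]; group
    letI : MulAction (zpowers q) InvK :=
      { smul := fun a s => ⟨a * s.1 * (a : G)⁻¹, by
          refine ⟨?_, hQK a a.2 _ s.2.2⟩
          rw [show (a : G) * s.1 * (a : G)⁻¹ = MulAut.conj (a : G) s.1 from rfl, MulEquiv.orderOf_eq]
          exact s.2.1⟩
        one_smul := fun s => Subtype.ext (show ((1 : zpowers q) : G) * s.1 * ((1 : zpowers q) : G)⁻¹ = s.1 by simp)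
        mul_smul := fun a b s => Subtype.ext (show ((a * b : zpowers q) : G) * s.1 * ((a * b : zpowers q) : G)⁻¹
          = (a : G) * ((b : G) * s.1 * (b : G)⁻¹) * (a : G)⁻¹ by rw [Subgroup.coe_mul]; group) }
    have h := (IsPGroup.of_card (n := k) (show Nat.card (zpowers q) = p ^ k by
      rw [Nat.card_zpowers, hk])).card_modEq_card_fixedPoints InvK
    have h0 : Nat.card (MulAction.fixedPoints (zpowers q) InvK) = 0 := by
      rw [Nat.card_eq_zero]
      refine Or.inl ⟨fun ⟨s, hs⟩ => ?_⟩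
      have hq1 : q ≠ 1 := fun h1 => hqC (h1 ▸ one_mem _)
      have h1 : q * s.1 * q⁻¹ = s.1 := congrArg Subtype.val (hs ⟨q, mem_zpowers q⟩)
      have hqs : q ∈ centralizer ({s.1} : Set G) :=
        mem_centralizer_singleton_iff.2 (mul_inv_eq_iff_eq_mul.1 h1)
      have hk0 : k ≠ 0 := fun h0 => hq1 (orderOf_eq_one_iff.1 (by rw [hk, h0, pow_zero]))
      exact hCp s.1 (hne1 _ s.2.1) (hco2 _ s.2.1)
        ((dvd_pow_self p hk0).trans (hk ▸ Subgroup.orderOf_dvd_natCard _ hqs))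
    rw [h0] at h
    exact Nat.modEq_zero_iff_dvd.1 h
  -- non-commuting involutions lie in a unique normaliser of a Sylow subgroup
  let N : Sylow p G → Subgroup G := fun Q => normalizer ((Q : Subgroup G) : Set G)
  have hNg : ∀ (g : G) (x : G), x ∈ N (g • P) ↔ g⁻¹ * x * g ∈ normalizer ((P : Subgroup G) : Set G) := by
    intro g x
    show x ∈ N (g • P) ↔ _
    simp only [N, mem_normalizer_iff_smul, smul_smul]
    rw [mul_assoc g⁻¹, mul_smul g⁻¹, inv_smul_eq_iff]
  have exist : ∀ s : G, orderOf s = 2 → ¬ Commute t s → ∃ Q : Sylow p G, t ∈ N Q ∧ s ∈ N Q := by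
    intro s hs hn
    set u := t * s with hu
    have hd : p ∣ orderOf u := S.dvd_orderOf_mul hp2 hs ht hn
    set u' := u ^ (orderOf u / p) with hu'
    have hu'o : orderOf u' = p := orderOf_pow_orderOf_div (orderOf_pos u).ne' hd
    obtain ⟨g, hg⟩ := exists_conj_mem P hu'o
    set v := g⁻¹ * u' * g with hv
    have hv1 : v ≠ 1 := fun h => by
      have : u' = 1 := by rw [show u' = g * v * g⁻¹ by rw [hv]; group, h]; group
      rw [this, orderOf_one] at hu'o
      exact hp.ne_one hu'o.symm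
    have htt : t * t = 1 := by rw [← pow_two, ← ht, pow_orderOf_eq_one]
    have hss : s * s = 1 := by rw [← pow_two, ← hs, pow_orderOf_eq_one]
    have htu : t * u' * t⁻¹ = u'⁻¹ := by
      rw [hu', ← conj_pow, ← inv_pow]
      congr 1
      rw [hu, mul_inv_rev, inv_eq_of_mul_eq_one_left htt, inv_eq_of_mul_eq_one_left hss, ← mul_assoc t t, htt, one_mul]
    have htN : g⁻¹ * t * g ∈ normalizer ((P : Subgroup G) : Set G) := by
      refine S.mem_normalizer_of_ti hg hv1 ?_
      rw [show g⁻¹ * t * g * v * (g⁻¹ * t * g)⁻¹ = g⁻¹ * (t * u' * t⁻¹) * g by rw [hv]; group, htu,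
        show g⁻¹ * u'⁻¹ * g = v⁻¹ by rw [hv]; group]
      exact inv_mem hg
    refine ⟨g • P, (hNg g t).2 htN, (hNg g s).2 ?_⟩
    have hsu : g⁻¹ * s * g = (g⁻¹ * t * g)⁻¹ * (g⁻¹ * u * g) := by rw [hu]; group
    rw [hsu]
    refine mul_mem (inv_mem htN) (S.centralizer_le_normalizer hg hv1 (mem_centralizer_singleton_iff.2 ?_))
    calc g⁻¹ * u * g * v = g⁻¹ * (u * u') * g := by rw [hv]; group
      _ = g⁻¹ * (u' * u) * g := by rw [hu', ← pow_succ', pow_succ]
      _ = _ := by rw [hv]; group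
  -- involutions in a normaliser
  obtain ⟨ψ, hψ⟩ := S.exists_psi C hy hyo
  have hψinj : Function.Injective ψ := (injective_iff_map_eq_one ψ).2 fun l hl => by
    have := (hψ l).1 hl
    rw [hX, mem_bot] at this
    exact Subtype.ext this
  haveI := (mulAut_zpowers hyo).1
  haveI hLc : IsCyclic L := isCyclic_of_injective ψ hψinj
  have decomp : ∀ s : G, orderOf s = 2 → s ∈ normalizer ((P : Subgroup G) : Set G) →
      ∃ a ∈ (P : Subgroup G), ∃ τ ∈ L, s = a * τ ∧ orderOf τ = 2 := by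
    intro s hs hsN
    obtain ⟨a, ha, l, hl, rfl⟩ := C.gen s hsN
    refine ⟨a, ha, l, hl, rfl, ?_⟩
    have hss : a * l * (a * l) = 1 := by rw [← pow_two, ← hs, pow_orderOf_eq_one]
    have hla : l * a * l⁻¹ ∈ (P : Subgroup G) := (mem_normalizer_iff.1 (C.le hl) a).1 ha
    have hll : l * l = 1 := by
      refine C.inf_eq_bot ?_ (mul_mem hl hl)
      rw [show l * l = (a * (l * a * l⁻¹))⁻¹ * (a * l * (a * l)) by group, hss, mul_one]
      exact inv_mem (mul_mem ha hla)
    refine orderOf_eq_prime (by rw [pow_two, hll]) fun h1 => ?_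
    rw [h1, mul_one] at hs
    obtain ⟨j, hj⟩ := FGSev.pElem_of_mem P.2 ha
    rw [hj] at hs
    exact hp2 ((Nat.prime_dvd_prime_iff_eq hp Nat.prime_two).1
      (hs ▸ dvd_pow_self p (fun h0 => by rw [h0, pow_zero] at hs; omega)))
  have uniqL : ∀ τ ∈ L, ∀ τ' ∈ L, orderOf τ = 2 → orderOf τ' = 2 → τ = τ' := by
    intro τ hτ τ' hτ' h h'
    by_contra hne
    let f : Fin 3 → {x : L // x ^ 2 = 1} := ![⟨1, one_pow 2⟩,
      ⟨⟨τ, hτ⟩, Subtype.ext (show τ ^ 2 = 1 by rw [← h, pow_orderOf_eq_one])⟩,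
      ⟨⟨τ', hτ'⟩, Subtype.ext (show τ' ^ 2 = 1 by rw [← h', pow_orderOf_eq_one])⟩]
    have hf : Function.Injective f := by
      intro i j
      fin_cases i <;> fin_cases j <;>
        simp [f, Subtype.ext_iff, hne, Ne.symm hne, hne1 τ h, hne1 τ' h', Ne.symm (hne1 τ h), Ne.symm (hne1 τ' h')]
    have h3 := Nat.card_le_card_of_injective f hf
    haveI := Fintype.ofFinite L
    rw [Nat.card_fin, Nat.card_eq_fintype_card, Fintype.card_subtype] at h3
    have := IsCyclic.card_pow_eq_one_le (α := L) two_pos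
    omega
  have inverts : ∀ τ ∈ L, orderOf τ = 2 → ∀ a ∈ (P : Subgroup G), τ * a * τ⁻¹ = a⁻¹ := by
    intro τ hτ h a ha
    have hmem := (mem_normalizer_iff.1 (C.le hτ) a).1 ha
    have hττ : τ * τ = 1 := by rw [← pow_two, ← h, pow_orderOf_eq_one]
    by_contra hne
    set b := a * (τ * a * τ⁻¹) with hb
    have hb1 : b ≠ 1 := fun h1 => hne (eq_inv_of_mul_eq_one_right h1)
    have hfix : Commute τ b := by
      have hτi : τ⁻¹ = τ := inv_eq_of_mul_eq_one_left hττ
      show τ * b = b * τ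
      rw [hb, (sylow_comm P S.cyc ha hmem).eq]
      conv_rhs => rw [← (sylow_comm P S.cyc ha hmem).eq]
      rw [hτi]
      simp only [mul_assoc, hττ, mul_one]
      rw [← mul_assoc τ τ, hττ, one_mul]
    have := S.fpf C hτ (mul_mem ha hmem) hb1 hfix
    rw [hX, mem_bot] at this
    exact hne1 τ h this
  -- some involution does not commute with `t`
  obtain ⟨s₀, hs₀, hn₀⟩ : ∃ s : G, orderOf s = 2 ∧ ¬ Commute t s := by
    by_contra! hall
    have hsub : Subgroup.closure {s : G | orderOf s = 2} ≤ K :=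
      (closure_le K).2 fun s hs => mem_centralizer_singleton_iff.2 (hall s hs).symm.eq
    have hn : (Subgroup.closure {s : G | orderOf s = 2}).Normal := by
      refine ⟨fun x hx g => ?_⟩
      have : (Subgroup.closure {s : G | orderOf s = 2}).map (MulAut.conj g).toMonoidHom ≤
          Subgroup.closure {s : G | orderOf s = 2} := by
        rw [MonoidHom.map_closure]
        refine closure_mono ?_
        rintro _ ⟨s, hs, rfl⟩
        show orderOf (MulAut.conj g s) = 2
        rw [MulEquiv.orderOf_eq]; exact hs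
      exact this ⟨x, hx, rfl⟩
    rcases S.eq_bot_or_top hn with h | h
    · have : t ∈ (⊥ : Subgroup G) := h ▸ subset_closure ht
      exact hne1 t ht (mem_bot.1 this)
    · exact S.centralizer_ne_top (hne1 t ht) (top_le_iff.1 (h ▸ hsub))
  let SN := {Q : Sylow p G // t ∈ N Q}
  have invN : ∀ g : G, t ∈ N (g • P) → ∀ s, (orderOf s = 2 ∧ s ∈ N (g • P)) ↔
      ∃ a ∈ (P : Subgroup G), g⁻¹ * s * g = a * (g⁻¹ * t * g) := by
    intro g htg s
    have hconj : ∀ x : G, orderOf (g⁻¹ * x * g) = orderOf x := fun x => by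
      rw [show g⁻¹ * x * g = MulAut.conj g⁻¹ x by simp, MulEquiv.orderOf_eq]
    obtain ⟨a₀, ha₀, τ, hτ, het, hτo⟩ := decomp _ (by rw [hconj, ht]) ((hNg g t).1 htg)
    constructor
    · rintro ⟨hs, hsN⟩
      obtain ⟨a, ha, τ', hτ', hes, hτ'o⟩ := decomp _ (by rw [hconj, hs]) ((hNg g s).1 hsN)
      refine ⟨a * a₀⁻¹, mul_mem ha (inv_mem ha₀), ?_⟩
      rw [hes, het, uniqL τ' hτ' τ hτ hτ'o hτo]; group
    · rintro ⟨a, ha, hes⟩
      have hN' : g⁻¹ * s * g ∈ normalizer ((P : Subgroup G) : Set G) :=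
        hes ▸ mul_mem (le_normalizer ha) ((hNg g t).1 htg)
      refine ⟨?_, (hNg g s).2 hN'⟩
      rw [← hconj, hes, het, ← mul_assoc]
      refine orderOf_eq_prime ?_ fun h1 => ?_
      · have hττ : τ * τ = 1 := by rw [← pow_two, ← hτo, pow_orderOf_eq_one]
        rw [pow_two, show a * a₀ * τ * (a * a₀ * τ) = a * a₀ * (τ * (a * a₀) * τ⁻¹) * (τ * τ) by group,
          inverts τ hτ hτo _ (mul_mem ha ha₀), hττ, mul_inv_cancel, mul_one]
      · have : τ ∈ (P : Subgroup G) := by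
          rw [show τ = (a * a₀)⁻¹ * (a * a₀ * τ) by group, h1, mul_one]
          exact inv_mem (mul_mem ha ha₀)
        exact hne1 τ hτo (C.inf_eq_bot this hτ)
  have hP1 : 1 < Nat.card (P : Subgroup G) := (one_lt_card_iff_ne_bot _).2 S.nontriv
  -- within one normaliser no other involution commutes with `t`
  have hnoc : ∀ g : G, t ∈ N (g • P) → ∀ s, orderOf s = 2 → s ∈ N (g • P) → Commute t s → s = t := by
    intro g htg s hs hsN hc
    obtain ⟨a, ha, hes⟩ := (invN g htg s).1 ⟨hs, hsN⟩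
    by_contra hne
    have hau : a = g⁻¹ * (s * t⁻¹) * g := by
      rw [show a = a * (g⁻¹ * t * g) * (g⁻¹ * t * g)⁻¹ by group, ← hes]; group
    have hsq : a * a = 1 := by
      have htt : t * t = 1 := by rw [← pow_two, ← ht, pow_orderOf_eq_one]
      have hss : s * s = 1 := by rw [← pow_two, ← hs, pow_orderOf_eq_one]
      rw [hau, inv_eq_of_mul_eq_one_left htt,
        show g⁻¹ * (s * t) * g * (g⁻¹ * (s * t) * g) = g⁻¹ * (s * (t * s) * t) * g by group, hc.eq,
        show s * (s * t) * t = (s * s) * (t * t) by group, hss, htt]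
      group
    obtain ⟨j, hj⟩ := FGSev.pElem_of_mem P.2 ha
    have : orderOf a ∣ 2 := orderOf_dvd_of_pow_eq_one (by rw [pow_two, hsq])
    rw [hj] at this
    rcases Nat.eq_zero_or_pos j with h0 | h0
    · have ha1 : a = 1 := orderOf_eq_one_iff.1 (by rw [hj, h0, pow_zero])
      rw [ha1, one_mul] at hes
      exact hne (mul_left_cancel (mul_right_cancel hes))
    · exact hp2 ((Nat.prime_dvd_prime_iff_eq hp Nat.prime_two).1 ((dvd_pow_self p h0.ne').trans this))
  -- the count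
  let NC := {s : G // orderOf s = 2 ∧ ¬ Commute t s}
  let Pr := {q : SN × G // orderOf q.2 = 2 ∧ q.2 ∈ N q.1.1 ∧ q.2 ≠ t}
  have huniq : ∀ Q Q' : Sylow p G, ∀ s, orderOf s = 2 → ¬ Commute t s → t ∈ N Q → t ∈ N Q' → s ∈ N Q →
      s ∈ N Q' → Q = Q' := by
    intro Q Q' s hs hn htQ htQ' hsQ hsQ'
    obtain ⟨g, rfl⟩ := MulAction.exists_smul_eq G P Q
    obtain ⟨g', rfl⟩ := MulAction.exists_smul_eq G P Q'
    obtain ⟨a, ha, hea⟩ := (invN g htQ s).1 ⟨hs, hsQ⟩
    obtain ⟨b, hb, heb⟩ := (invN g' htQ' s).1 ⟨hs, hsQ'⟩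
    have ha1 : a ≠ 1 := fun h => hn (by
      rw [h, one_mul] at hea
      rw [mul_left_cancel (mul_right_cancel hea)])
    have hab : g * a * g⁻¹ = g' * b * g'⁻¹ := by
      have e1 : g * a * g⁻¹ = s * t⁻¹ := by
        rw [show g * a * g⁻¹ = g * (a * (g⁻¹ * t * g)) * g⁻¹ * t⁻¹ by group, ← hea]; group
      have e2 : g' * b * g'⁻¹ = s * t⁻¹ := by
        rw [show g' * b * g'⁻¹ = g' * (b * (g'⁻¹ * t * g')) * g'⁻¹ * t⁻¹ by group, ← heb]; group
      rw [e1, e2]
    have hmem := S.mem_normalizer_of_ti (g := g'⁻¹ * g) ha ha1 (by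
      rw [show g'⁻¹ * g * a * (g'⁻¹ * g)⁻¹ = g'⁻¹ * (g * a * g⁻¹) * g' by group, hab,
        show g'⁻¹ * (g' * b * g'⁻¹) * g' = b by group]
      exact hb)
    rw [mem_normalizer_iff_smul, mul_smul, inv_smul_eq_iff] at hmem
    exact hmem
  have ePr : Nat.card NC = Nat.card Pr := by
    refine (Nat.card_eq_of_bijective (fun q : Pr => (⟨q.1.2, q.2.1, ?_⟩ : NC)) ⟨?_, ?_⟩).symm
    · intro hc
      obtain ⟨g, hg⟩ := MulAction.exists_smul_eq G P q.1.1.1
      exact q.2.2.2 (hnoc g (by rw [hg]; exact q.1.1.2) _ q.2.1 (by rw [hg]; exact q.2.2.1) hc)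
    · rintro ⟨⟨⟨Q, hQ⟩, s⟩, h1, h2, h3⟩ ⟨⟨⟨Q', hQ'⟩, s'⟩, h1', h2', h3'⟩ he
      obtain rfl : s = s' := congrArg Subtype.val he
      obtain ⟨g, rfl⟩ := MulAction.exists_smul_eq G P Q
      have hn : ¬ Commute t s := fun hc => h3 (hnoc g hQ _ h1 h2 hc)
      obtain rfl := huniq _ Q' s h1 hn hQ hQ' h2 h2'
      rfl
    · rintro ⟨s, hs, hn⟩
      obtain ⟨Q, htQ, hsQ⟩ := exist s hs hn
      exact ⟨⟨(⟨Q, htQ⟩, s), hs, hsQ, fun h => hn (h ▸ Commute.refl t)⟩, rfl⟩
  have eFib : Nat.card Pr = Nat.card SN * (Nat.card (P : Subgroup G) - 1) := by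
    let e : Pr ≃ Σ Q : SN, {s : G // orderOf s = 2 ∧ s ∈ N Q.1 ∧ s ≠ t} :=
      { toFun := fun q => ⟨q.1.1, q.1.2, q.2⟩
        invFun := fun q => ⟨(q.1, q.2.1), q.2.2⟩
        left_inv := fun _ => rfl
        right_inv := fun _ => rfl }
    haveI := Fintype.ofFinite SN
    rw [Nat.card_congr e, Nat.card_sigma, Finset.sum_congr rfl (fun Q _ => ?_), Finset.sum_const,
      Finset.card_univ, smul_eq_mul, ← Nat.card_eq_fintype_card]
    obtain ⟨g, hg⟩ := MulAction.exists_smul_eq G P Q.1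
    rw [← hg]
    have htg : t ∈ N (g • P) := hg ▸ Q.2
    let f : {a : (P : Subgroup G) // a ≠ 1} → {s : G // orderOf s = 2 ∧ s ∈ N (g • P) ∧ s ≠ t} := fun a =>
      ⟨g * ((a.1 : G) * (g⁻¹ * t * g)) * g⁻¹, by
        obtain ⟨h1, h2⟩ := (invN g htg (g * ((a.1 : G) * (g⁻¹ * t * g)) * g⁻¹)).2 ⟨a.1, a.1.2, by group⟩
        refine ⟨h1, h2, fun h => a.2 (Subtype.ext ?_)⟩
        show (a.1 : G) = 1
        rw [show (a.1 : G) = g⁻¹ * (g * ((a.1 : G) * (g⁻¹ * t * g)) * g⁻¹) * g * (g⁻¹ * t * g)⁻¹ by group, h]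
        group⟩
    have hf : Function.Bijective f := by
      refine ⟨fun a b h => Subtype.ext (Subtype.ext (mul_right_cancel (mul_left_cancel (mul_right_cancel
        (congrArg Subtype.val h))))), fun ⟨s, hs, hsN, hst⟩ => ?_⟩
      obtain ⟨a, ha, hea⟩ := (invN g htg s).1 ⟨hs, hsN⟩
      refine ⟨⟨⟨a, ha⟩, fun h => hst ?_⟩, Subtype.ext ?_⟩
      · rw [show a = 1 from congrArg Subtype.val h, one_mul] at hea
        exact mul_left_cancel (mul_right_cancel hea)
      · show g * (a * (g⁻¹ * t * g)) * g⁻¹ = s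
        rw [← hea]; group
    haveI := Fintype.ofFinite (P : Subgroup G)
    rw [← Nat.card_eq_of_bijective f hf, Nat.card_eq_fintype_card, Fintype.card_subtype_compl,
      Fintype.card_subtype_eq, Nat.card_eq_fintype_card]
  -- transitivity
  obtain ⟨Q₁, hQ₁, -⟩ := exist s₀ hs₀ hn₀
  have hSN : Nat.card SN ∣ Nat.card K := by
    letI : MulAction K SN :=
      { smul := fun k Q => ⟨(k : G) • Q.1, by
          obtain ⟨g, hg⟩ := MulAction.exists_smul_eq G P Q.1
          rw [← hg, smul_smul, hNg]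
          have hk : (k : G) * t = t * k := mem_centralizer_singleton_iff.1 k.2
          rw [show ((k : G) * g)⁻¹ * t * ((k : G) * g) = g⁻¹ * ((k : G)⁻¹ * (t * k)) * g by group, ← hk,
            inv_mul_cancel_left, ← hNg, hg]
          exact Q.2⟩
        one_smul := fun Q => Subtype.ext (one_smul G Q.1)
        mul_smul := fun a b Q => Subtype.ext (mul_smul (a : G) (b : G) Q.1) }
    have htr : MulAction.orbit K (⟨Q₁, hQ₁⟩ : SN) = Set.univ := by
      refine Set.eq_univ_of_forall fun ⟨Q, hQ⟩ => ?_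
      obtain ⟨g, rfl⟩ := MulAction.exists_smul_eq G P Q
      obtain ⟨g₁, hg₁⟩ := MulAction.exists_smul_eq G P Q₁
      have htg₁ : t ∈ N (g₁ • P) := hg₁ ▸ hQ₁
      obtain ⟨a, ha, τ, hτ, hea, hτo⟩ := decomp (g⁻¹ * t * g)
        (by rw [show g⁻¹ * t * g = MulAut.conj g⁻¹ t by simp, MulEquiv.orderOf_eq, ht]) ((hNg g t).1 hQ)
      obtain ⟨a₁, ha₁, τ₁, hτ₁, hea₁, hτ₁o⟩ := decomp (g₁⁻¹ * t * g₁)
        (by rw [show g₁⁻¹ * t * g₁ = MulAut.conj g₁⁻¹ t by simp, MulEquiv.orderOf_eq, ht]) ((hNg g₁ t).1 htg₁)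
      obtain rfl := uniqL τ₁ hτ₁ τ hτ hτ₁o hτo
      -- a square root of `a / a₁`
      obtain ⟨c, hc, hcc⟩ : ∃ c ∈ (P : Subgroup G), c * c = a * a₁⁻¹ := by
        have hmem : a * a₁⁻¹ ∈ (P : Subgroup G) := mul_mem ha (inv_mem ha₁)
        obtain ⟨j, hj⟩ := FGSev.pElem_of_mem P.2 hmem
        obtain ⟨m, hm⟩ := (Nat.Prime.odd_of_ne_two hp hp2).pow (n := j)
        refine ⟨(a * a₁⁻¹) ^ (m + 1), pow_mem hmem _, ?_⟩
        rw [← pow_add, show m + 1 + (m + 1) = p ^ j + 1 by omega, pow_succ, ← hj, pow_orderOf_eq_one, one_mul]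
      have hkey : c * (g₁⁻¹ * t * g₁) * c⁻¹ = g⁻¹ * t * g := by
        rw [hea, hea₁]
        calc c * (a₁ * τ₁) * c⁻¹ = c * a₁ * (τ₁ * c⁻¹ * τ₁⁻¹) * τ₁ := by group
          _ = c * (a₁ * c) * τ₁ := by rw [inverts τ₁ hτ₁ hτo _ (inv_mem hc), inv_inv]; group
          _ = a * τ₁ := by
            rw [(sylow_comm P S.cyc ha₁ hc).eq, ← mul_assoc, hcc, inv_mul_cancel_right]
      refine ⟨⟨g * c * g₁⁻¹, mem_centralizer_singleton_iff.2 ?_⟩, Subtype.ext ?_⟩
      · calc g * c * g₁⁻¹ * t = g * (c * (g₁⁻¹ * t * g₁) * c⁻¹) * (c * g₁⁻¹) := by group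
          _ = t * (g * c * g₁⁻¹) := by rw [hkey]; group
      · show (g * c * g₁⁻¹) • Q₁ = g • P
        rw [← hg₁, smul_smul, inv_mul_cancel_right, mul_smul]
        congr 1
        exact (mem_normalizer_iff_smul c P).1 (le_normalizer hc)
    haveI : MulAction.IsPretransitive K SN := ⟨fun a b => by
      have ha := htr.ge (Set.mem_univ a)
      have hb := htr.ge (Set.mem_univ b)
      obtain ⟨u, rfl⟩ := ha
      obtain ⟨v, rfl⟩ := hb
      exact ⟨v * u⁻¹, by rw [smul_smul, inv_mul_cancel_right]⟩⟩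
    rw [← MulAction.index_stabilizer_of_transitive K (⟨Q₁, hQ₁⟩ : SN)]
    exact index_dvd_card _
  have hsplit : Nat.card Inv = Nat.card InvK + Nat.card NC := by
    let e : Inv ≃ InvK ⊕ NC :=
      { toFun := fun s => if h : Commute t s.1 then
          Sum.inl ⟨s.1, s.2, mem_centralizer_singleton_iff.2 h.symm.eq⟩ else Sum.inr ⟨s.1, s.2, h⟩
        invFun := fun s => s.elim (fun a => ⟨a.1, a.2.1⟩) (fun a => ⟨a.1, a.2.1⟩)
        left_inv := fun s => by by_cases h : Commute t s.1 <;> simp [h]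
        right_inv := fun s => by
          rcases s with a | a
          · have h : Commute t a.1 := (mem_centralizer_singleton_iff.1 a.2.2 : Commute a.1 t).symm
            simp [h]
          · simp [a.2.2] }
    rw [Nat.card_congr e, Nat.card_sum]
  rw [hsplit, Nat.dvd_add_right hIK, ePr, eFib] at hI
  obtain ⟨k, hk⟩ := IsPGroup.iff_card.1 P.2
  have hk0 : k ≠ 0 := fun h => S.nontriv (card_eq_one.1 (by rw [hk, h, pow_zero]))
  rcases hp.dvd_mul.1 hI with h | h
  · exact hKp (h.trans hSN)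
  · rw [hk] at h hP1
    have h1 : p ∣ p ^ k := dvd_pow_self p hk0
    have := Nat.dvd_sub h1 h
    rw [show p ^ k - (p ^ k - 1) = 1 by omega] at this
    exact hp.ne_one (Nat.dvd_one.1 this)

end Cfsg.Agent.CyclicSylowAb
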